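import Groth.Agent.Props.GenPull
import Groth.Agent.AmpleLib.Twist

/-!
# The projection formula for an invertible module
-/

set_option autoImplicit false
set_option linter.style.haveILetI false

universe u

open CategoryTheory Limits AlgebraicGeometry Opposite TopologicalSpace

noncomputable section

namespace Groth.Agent.AmpCrit.ProjForm

open Groth.Agent.QCoh Groth.Agent.Props.GenLocus Groth.Agent.Props.GenTensor
  Groth.Agent.Props.GenPull Groth.Agent.AmpleLib

variable {X P : Scheme.{u}} (r : X ⟶ P) {E : P.Modules} (F : X.Modules)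

/-- `r_* F ⊗ E`. -/
abbrev dom (E : P.Modules) : P.Modules := CohB1.tensorMod ((Scheme.Modules.pushforward r).obj F) E

/-- `r_* (F ⊗ r^* E)`. -/
abbrev cod (E : P.Modules) : P.Modules :=
  (Scheme.Modules.pushforward r).obj (CohB1.tensorMod F ((Scheme.Modules.pullback r).obj E))

/-- `a ⊗ g`. -/
def dsec {V : P.Opens} (a : Γ(F, r ⁻¹ᵁ V)) (g : Γ(E, V)) : Γ(dom r F E, V) :=
  tmul (M := (Scheme.Modules.pushforward r).obj F) a g

/-- `a ⊗ r^* g`. -/
def csec {V : P.Opens} (a : Γ(F, r ⁻¹ᵁ V)) (g : Γ(E, V)) : Γ(cod r F E, V) :=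
  tmul (M := F) (N := (Scheme.Modules.pullback r).obj E) a (pb r g)

lemma res_dsec {V W : P.Opens} (h : W ≤ V) (a : Γ(F, r ⁻¹ᵁ V)) (g : Γ(E, V)) :
    res (dom r F E) h (dsec r F a g) = dsec r F (res F (r.preimage_mono h) a) (res E h g) :=
  res_tmul h (M := (Scheme.Modules.pushforward r).obj F) a g

lemma res_csec {V W : P.Opens} (h : W ≤ V) (a : Γ(F, r ⁻¹ᵁ V)) (g : Γ(E, V)) :
    res (cod r F E) h (csec r F a g) = csec r F (res F (r.preimage_mono h) a) (res E h g) :=
  (res_tmul (r.preimage_mono h) (M := F) a (pb r g)).trans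
    (congrArg (tmul (res F (r.preimage_mono h) a)) (LFFrame.unitSec_res r E h g).symm)

lemma dsec_smul {V : P.Opens} (u : Γ(P, V)) (a : Γ(F, r ⁻¹ᵁ V)) (g : Γ(E, V)) :
    dsec r F a (u • g) = dsec r F (r.app V u • a) g :=
  (tmul_smul_right u (M := (Scheme.Modules.pushforward r).obj F) a g).trans
    (tmul_smul_left u (M := (Scheme.Modules.pushforward r).obj F) a g).symm

lemma csec_smul {V : P.Opens} (u : Γ(P, V)) (a : Γ(F, r ⁻¹ᵁ V)) (g : Γ(E, V)) :
    csec r F a (u • g) = csec r F (r.app V u • a) g := by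
  unfold csec
  rw [show pb r (u • g) = r.app V u • pb r g from LFFrame.unitSec_smul r E V u g, tmul_smul_right,
    ← tmul_smul_left]

lemma dsec_bijective {U V : P.Opens} {g : Γ(E, U)} (hg : IsGen E U g) (h : V ≤ U) :
    Function.Bijective fun a : Γ(F, r ⁻¹ᵁ V) => dsec r F a (res E h g) :=
  tmul_gen_bijective hg ((Scheme.Modules.pushforward r).obj F) h

lemma csec_bijective {U V : P.Opens} {g : Γ(E, U)} (hg : IsGen E U g) (h : V ≤ U) :
    Function.Bijective fun a : Γ(F, r ⁻¹ᵁ V) => csec r F a (res E h g) := by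
  have := tmul_gen_bijective (isGen_pb r hg) F (r.preimage_mono h)
  rwa [show (fun a : Γ(F, r ⁻¹ᵁ V) => csec r F a (res E h g)) =
      fun a => tmul a (res ((Scheme.Modules.pullback r).obj E) (r.preimage_mono h) (pb r g)) from
    funext fun a => congrArg (tmul a) (LFFrame.unitSec_res r E h g)]

/-- The projection formula `r_* F ⊗ E ≅ r_* (F ⊗ r^* E)`. -/
theorem nonempty_projIso (hE : PicF.IsInvertible E) : Nonempty (dom r F E ≅ cod r F E) := by
  let ι := {p : Σ U : P.Opens, Γ(E, U) // IsGen E p.1 p.2}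
  have hc : ∀ V : P.Opens, V ≤ ⨆ i : ι, V ⊓ i.1.1 := fun V x hx => by
    obtain ⟨U, e, hxU, he⟩ := exists_isGen hE x
    exact Opens.mem_iSup.mpr ⟨(⟨⟨U, e⟩, he⟩ : ι), hx, hxU⟩
  let Rel : ∀ V : P.Opens, Γ(dom r F E, V) → Γ(cod r F E, V) → Prop := fun V m τ =>
    ∀ (i : ι) (V' : P.Opens) (hV : V' ≤ V) (hi : V' ≤ i.1.1) (a : Γ(F, r ⁻¹ᵁ V')),
      res (dom r F E) hV m = dsec r F a (res E hi i.1.2) →
        res (cod r F E) hV τ = csec r F a (res E hi i.1.2)
  have huniq : ∀ V m τ τ', Rel V m τ → Rel V m τ' → τ = τ' := by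
    intro V m τ τ' h1 h2
    refine eq_of_locally_eq _ (U := fun i : ι => V ⊓ i.1.1) (fun i => inf_le_left) (hc V) _ _ fun i => ?_
    obtain ⟨a, ha⟩ := (dsec_bijective r F i.2 (inf_le_right : V ⊓ i.1.1 ≤ i.1.1)).2
      (res (dom r F E) (inf_le_left : V ⊓ i.1.1 ≤ V) m)
    exact (h1 i _ inf_le_left inf_le_right a ha.symm).trans (h2 i _ inf_le_left inf_le_right a ha.symm).symm
  have key : ∀ (i j : ι) (V : P.Opens) (hi : V ≤ i.1.1) (hj : V ≤ j.1.1) (b c : Γ(F, r ⁻¹ᵁ V)),
      dsec r F b (res E hi i.1.2) = dsec r F c (res E hj j.1.2) →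
        csec r F b (res E hi i.1.2) = csec r F c (res E hj j.1.2) := by
    intro i j V hi hj b c h
    obtain ⟨u, hu, -⟩ := i.2.exists_eq hi (res E hj j.1.2)
    rw [hu, dsec_smul] at h
    rw [hu, csec_smul, (dsec_bijective r F i.2 hi).1 h]
  have hex : ∀ V m, ∃ τ, Rel V m τ := by
    intro V m
    choose a ha using fun i : ι => (dsec_bijective r F i.2 (inf_le_right : V ⊓ i.1.1 ≤ i.1.1)).2
      (res (dom r F E) (inf_le_left : V ⊓ i.1.1 ≤ V) m)
    obtain ⟨τ, hτ⟩ := exists_glue (cod r F E) (U := fun i : ι => V ⊓ i.1.1) (fun i => inf_le_left)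
      (hc V) (fun i => csec r F (a i) (res E (inf_le_right : V ⊓ i.1.1 ≤ i.1.1) i.1.2)) fun i j => by
        rw [res_csec, res_csec, res_res, res_res]
        refine key i j _ _ _ _ _ ?_
        have h1 := congrArg (res (dom r F E) (inf_le_left : (V ⊓ i.1.1) ⊓ (V ⊓ j.1.1) ≤ _)) (ha i)
        have h2 := congrArg (res (dom r F E) (inf_le_right : (V ⊓ i.1.1) ⊓ (V ⊓ j.1.1) ≤ _)) (ha j)
        simp only [res_dsec, res_res] at h1 h2
        exact h1.trans h2.symm
    refine ⟨τ, fun i V' hV hi b hb => ?_⟩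
    refine eq_of_locally_eq _ (U := fun j : ι => V' ⊓ j.1.1) (fun j => inf_le_left) (hc V') _ _ fun j => ?_
    rw [res_res, ← res_res _ (inf_le_left : V ⊓ j.1.1 ≤ V)
      (le_inf (inf_le_left.trans hV) inf_le_right : V' ⊓ j.1.1 ≤ V ⊓ j.1.1), hτ j, res_csec, res_res,
      res_csec, res_res]
    refine key j i _ _ _ _ _ ?_
    have h1 := congrArg (res (dom r F E)
      (le_inf (inf_le_left.trans hV) inf_le_right : V' ⊓ j.1.1 ≤ V ⊓ j.1.1)) (ha j)
    have h2 := congrArg (res (dom r F E) (inf_le_left : V' ⊓ j.1.1 ≤ V')) hb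
    simp only [res_dsec, res_res] at h1 h2
    exact h1.trans h2
  choose f hf using hex
  have hadd : ∀ V m m', f V (m + m') = f V m + f V m' := by
    intro V m m'
    refine huniq V _ _ _ (hf V _) fun i V' hV hi a ha => ?_
    obtain ⟨b, hb⟩ := (dsec_bijective r F i.2 hi).2 (res (dom r F E) hV m)
    obtain ⟨c, hc'⟩ := (dsec_bijective r F i.2 hi).2 (res (dom r F E) hV m')
    rw [map_add, hf V m i V' hV hi b hb.symm, hf V m' i V' hV hi c hc'.symm]
    have hbc : a = b + c := (dsec_bijective r F i.2 hi).1 (ha.symm.trans (by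
      rw [map_add, ← hb, ← hc']
      exact (tmul_add_left (M := (Scheme.Modules.pushforward r).obj F) b c _).symm))
    rw [hbc]
    exact (tmul_add_left (M := F) b c _).symm
  have hsmul : ∀ V (s : Γ(P, V)) m, f V (s • m) = s • f V m := by
    intro V s m
    refine huniq V _ _ _ (hf V _) fun i V' hV hi a ha => ?_
    obtain ⟨b, hb⟩ := (dsec_bijective r F i.2 hi).2 (res (dom r F E) hV m)
    have hab : a = r.app V' (rres hV s) • b := (dsec_bijective r F i.2 hi).1 (ha.symm.trans (by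
      rw [res_smul, ← hb]
      exact (tmul_smul_left (rres hV s) (M := (Scheme.Modules.pushforward r).obj F) b _).symm))
    rw [res_smul, hf V m i V' hV hi b hb.symm, hab]
    exact (tmul_smul_left (r.app V' (rres hV s)) (M := F) b _).symm
  have hnat : ∀ (V V' : P.Opens) (hV : V' ≤ V) m,
      f V' (res (dom r F E) hV m) = res (cod r F E) hV (f V m) := by
    intro V V' hV m
    refine huniq V' _ _ _ (hf V' _) fun i V'' hV' hi a ha => ?_
    rw [res_res] at ha ⊢
    exact hf V m i V'' (hV'.trans hV) hi a ha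
  let φ : dom r F E ⟶ cod r F E :=
    ⟨PresheafOfModules.homMk
      { app := fun V => AddCommGrpCat.ofHom (show Γ(dom r F E, V.unop) →+ Γ(cod r F E, V.unop) from
          AddMonoidHom.mk' (f V.unop) (hadd V.unop))
        naturality := fun {V V'} i => by
          ext a
          exact hnat V.unop V'.unop i.unop.le a }
      (fun V s a => hsmul V.unop s a)⟩
  haveI : IsIso φ := LFFrame.isIso_of_locally_bijective φ fun x => by
    obtain ⟨U, e, hxU, he⟩ := exists_isGen hE x
    refine ⟨U, hxU, fun V hV => ?_⟩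
    refine (Function.Bijective.of_comp_iff _ (dsec_bijective r F he hV)).mp ?_
    rw [show φ.app V ∘ (fun a : Γ(F, r ⁻¹ᵁ V) => dsec r F a (res E hV e)) =
        fun a => csec r F a (res E hV e) from funext fun a =>
      (res_self (cod r F E) le_rfl _).symm.trans
        (hf V _ (⟨⟨U, e⟩, he⟩ : ι) V le_rfl hV a (res_self (dom r F E) le_rfl _))]
    exact csec_bijective r F he hV
  exact ⟨asIso φ⟩

end Groth.Agent.AmpCrit.ProjForm

end
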