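import Groth.Agent.CohDev.AR
import Groth.Agent.ProperFin.Supp
import Groth.Agent.S9523
import Groth.Agent.S16188

/-!
Dévissage of coherent modules along finite morphisms that hit every point.
-/

universe u

open CategoryTheory Limits AlgebraicGeometry Opposite TopologicalSpace
open Coherent

noncomputable section

namespace Groth.Agent.AmpCrit

open Groth.Agent.CohDev Groth.Agent.PullStalk.Exact Groth.Agent.PullStalk.Sky

variable {X : Scheme.{u}}

lemma app_eq_zero_of_mem_ptIdeal {Y : Scheme.{u}} [IsReduced Y] (h : Y ⟶ X) (x : X)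
    (hr : ∀ w, h w ∈ closure ({x} : Set X)) (V : X.affineOpens) {a : Γ(X, V.1)}
    (ha : a ∈ (IntMult.ptIdeal x).ideal V) : h.app V.1 a = 0 := by
  rw [← basicOpen_eq_bot_iff, ← Scheme.preimage_basicOpen]
  refine le_bot_iff.mp fun w hw => ?_
  have hwV : h w ∈ V.1 := X.basicOpen_le a hw
  have hu : IsUnit (X.presheaf.germ V.1 (h w) hwV a) := (X.mem_basicOpen a (h w) hwV).mp hw
  have hx : x ∈ V.1 := mem_of_mem_closure x hwV (hr w)
  rw [ideal_ptIdeal x hx] at ha
  exact ((CycLib.not_mem_primeIdealOf_iff V.2 hwV a).mpr hu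
    ((primeIdealOf_le_iff V.2 hx hwV).mpr (specializes_iff_mem_closure.mpr (hr w)) ha)).elim

lemma killed_push_of_subset {Y : Scheme.{u}} [IsReduced Y] (h : Y ⟶ X) (x : X)
    (hr : ∀ w, h w ∈ closure ({x} : Set X)) (N : Y.Modules) :
    Killed (IntMult.ptIdeal x) ((Scheme.Modules.pushforward h).obj N) := fun V a ha m => by
  change (show Γ(N, h ⁻¹ᵁ V.1) from h.app V.1 a • (show Γ(N, h ⁻¹ᵁ V.1) from m)) = 0
  rw [app_eq_zero_of_mem_ptIdeal h x hr V ha, zero_smul]

lemma mem_support_push_of_eq {Y : Scheme.{u}} (f : Y ⟶ X) {z : Y} {x : X} (hz : f z = x) :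
    x ∈ CohB1.support ((Scheme.Modules.pushforward f).obj (Coh.structureModule Y)) := by
  subst hz
  intro hs
  let P := (Coh.push f).obj (Coh.structureModule Y)
  obtain ⟨W, hyW, i₁, i₂, e⟩ := P.presheaf.germ_eq (f z) (show f z ∈ (⊤ : X.Opens) from trivial)
    (show f z ∈ (⊤ : X.Opens) from trivial) (show Γ(Y, f ⁻¹ᵁ ⊤) from 1) 0 (hs.elim _ _)
  have h1 : (1 : Γ(Y, f ⁻¹ᵁ W)) = 0 :=
    ((map_one (Y.presheaf.map ((Opens.map f.base).map i₁).op).hom).symm.trans e).trans (map_zero _)
  exact one_ne_zero (α := Y.presheaf.stalk z)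
    ((map_one (Y.presheaf.germ (f ⁻¹ᵁ W) z hyW).hom).symm.trans
      ((congrArg (Y.presheaf.germ (f ⁻¹ᵁ W) z hyW) h1).trans (map_zero _)))

lemma bijective_idealMulι [IsNoetherian X] (I : X.IdealSheafData) {G : X.Modules} (hG : Coh.IsCoh G)
    {x : X} (hI : x ∉ (I.support : Set X)) :
    Function.Bijective (stalkLin (Dual3.idealMulι I G) x) := by
  let u := (Scheme.Modules.pullbackPushforwardAdjunction I.subschemeι).unit.app G
  have hp := (ZClosLib.CohDescent.isCoh_pullback I.subschemeι G hG)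
  haveI := hp.1
  have hT := CycLib.isCoh_push _ I.subschemeι hp
  obtain ⟨Q, p, q, w₁, w₂, hQ, hS₁, hS₂⟩ := exists_image u hG hT
  haveI := hS₂.mono_f
  have hxQ : x ∉ CohB1.support Q := fun h => by
    have h1 := support_subset_of_mono q h
    refine h1 (ClUnit.subsingleton_stalk_pushforward I.subschemeι _ x
      ⟨(Set.range I.subschemeι)ᶜ, I.subschemeι.isClosedEmbedding.isClosed_range.isOpen_compl⟩ ?_
      (le_bot_iff.mp fun z hz => hz ⟨z, rfl⟩))
    change x ∈ (Set.range I.subschemeι)ᶜ
    rw [Scheme.IdealSheafData.range_subschemeι]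
    exact hI
  obtain ⟨hinj, hex, -⟩ := stalk_exact hS₁ x
  refine ⟨hinj, fun t => (hex t).mp ?_⟩
  have : Subsingleton (Q.presheaf.stalk x) := not_not.mp hxQ
  exact Subsingleton.elim _ _

/-- Dévissage: a property stable under isomorphisms, extensions and roots of powers, that holds for
direct images of coherent modules along enough finite morphisms, holds for all coherent modules. -/
theorem devissage_master [IsNoetherian X] {P : X.Modules → Prop}
    (hiso : ∀ M N : X.Modules, Nonempty (M ≅ N) → P M → P N)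
    (h0 : ∀ M : X.Modules, IsZero M → P M)
    (hext : ∀ S : ShortComplex X.Modules, S.ShortExact → Coh.IsCoh S.X₁ → Coh.IsCoh S.X₂ →
      Coh.IsCoh S.X₃ → P S.X₁ → P S.X₃ → P S.X₂)
    (hroot : ∀ (F : X.Modules) (d : ℕ), Coh.IsCoh F → 1 ≤ d → P (∐ fun _ : Fin d => F) → P F)
    (hg : ∀ x : X, ∃ (Y : Scheme.{u}) (g : Y ⟶ X) (y : Y), IsFinite g ∧ g y = x ∧
      ∀ N : Y.Modules, Coh.IsCoh N → P ((Scheme.Modules.pushforward g).obj N))
    {M : X.Modules} (hM : Coh.IsCoh M) : P M := by
  refine devissage_ext isClosed_univ h0 (fun S hS a b c _ => hext S hS a b c)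
    (fun x _ J hJ hsmall => ?_) hM (Set.subset_univ _)
  obtain ⟨Y, g, y, hfin, hgy, hP⟩ := hg x
  haveI : IsIntegral (IntMult.ptIdeal y).subscheme :=
    S16188.isIntegral_subscheme _ isIrreducible_singleton.closure
  let i := (IntMult.ptIdeal y).subschemeι
  let h := i ≫ g
  haveI : IsLocallyNoetherian (IntMult.ptIdeal y).subscheme :=
    LocallyOfFiniteType.isLocallyNoetherian h
  haveI : CompactSpace (IntMult.ptIdeal y).subscheme := QuasiCompact.compactSpace_of_compactSpace h
  haveI : IsNoetherian (IntMult.ptIdeal y).subscheme := ⟨⟩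
  obtain ⟨z, hz⟩ : ∃ z, i z = y := by
    have : y ∈ Set.range i := by
      rw [Scheme.IdealSheafData.range_subschemeι, coe_support_ptIdeal]
      exact subset_closure rfl
    exact this
  have hhz : h z = x := by
    change g (i z) = x
    rw [hz, hgy]
  have hrange : ∀ w, h w ∈ closure ({x} : Set X) := fun w => by
    have hw : i w ∈ closure ({y} : Set Y) := by
      rw [← coe_support_ptIdeal, ← Scheme.IdealSheafData.range_subschemeι]
      exact ⟨w, rfl⟩
    have := map_mem_closure g.continuous hw (Set.mapsTo_singleton.mpr (show g y ∈ ({x} : Set X) from hgy))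
    exact this
  have hO := ProperFin.isCoh_structureModule (IntMult.ptIdeal y).subscheme
  let G := (Scheme.Modules.pushforward h).obj (Coh.structureModule (IntMult.ptIdeal y).subscheme)
  have hG : Coh.IsCoh G := CycLib.isCoh_push _ h hO
  have hGk : Killed (IntMult.ptIdeal x) G := killed_push_of_subset h x hrange _
  refine piece_of_model_ext (T := Set.univ) (Set.subset_univ _) (fun S hS a b c _ => hext S hS a b c)
    hiso hroot hsmall hG ((support_subset_of_killed hGk).trans (coe_support_ptIdeal x).le)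
    (mem_support_push_of_eq h hhz) (fun a ha m => smul_stalk_of_killed hG.1 hGk ha m)
    (fun I hI => ⟨_, 𝟙 _, inferInstance, isCoh_idealMul I hG, ?_, ?_⟩) hJ
  · rw [Category.id_comp]
    exact bijective_idealMulι I hG hI
  · obtain ⟨e, -⟩ := S9523.result h _ hO.1 I
    refine hiso _ _ ⟨((Scheme.Modules.pushforwardComp i g).app _) ≪≫ e.symm⟩ (hP _ ?_)
    have hI' := isCoh_idealMul (I.comap h) hO
    haveI := hI'.1
    exact CycLib.isCoh_push _ i hI'

end Groth.Agent.AmpCrit
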