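import Groth.Agent.Props.AffineCrit
import Groth.Agent.CohAff.ResOps
import Groth.Agent.CohAff.RcIso
import Groth.Agent.QCoh.Pullback
import Groth.Agent.QCoh.Qcqs
import Groth.Agent.Props.SubExt

/-!
# Affine morphisms from vanishing of the first higher direct image
-/

set_option autoImplicit false

universe u

open CategoryTheory Limits AlgebraicGeometry Opposite TopologicalSpace

noncomputable section

namespace Groth.Agent.AmpCrit

variable {X Y : Scheme.{u}}

/-- Restriction of the structure module to an open subscheme. -/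
def restrictUnitIso (j : Y ⟶ X) [IsOpenImmersion j] :
    (Scheme.Modules.restrictFunctor j).obj (Coh.structureModule X) ≅ Coh.structureModule Y :=
  (Scheme.Modules.restrictFunctorIsoPullback j).app _ ≪≫ QCoh.pullbackUnitIso j

/-- A quasi-coherent ideal on a retro-compact open extends. -/
theorem exists_extend_ideal (U : X.Opens) [QuasiCompact U.ι] {I : (U : Scheme.{u}).Modules}
    (i : I ⟶ Coh.structureModule U.toScheme) [Mono i] [I.IsQuasicoherent] :
    ∃ (I' : X.Modules) (i' : I' ⟶ Coh.structureModule X), Mono i' ∧ Coh.IsQCoh I' ∧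
      Nonempty ((Scheme.Modules.restrictFunctor U.ι).obj I' ≅ I) := by
  let j := U.ι
  have := ProjTwist.isQuasicoherent_structureModule U.toScheme
  have := ProjTwist.isQuasicoherent_structureModule X
  have : QuasiSeparated j := inferInstance
  have : (cokernel i).IsQuasicoherent := inferInstance
  have := QCoh.isQuasicoherent_pushforward j (cokernel i)
  let F := Scheme.Modules.restrictFunctor j
  let adj := Scheme.Modules.restrictAdjunction j
  let b : F.obj (Coh.structureModule X) ⟶ cokernel i := (restrictUnitIso j).hom ≫ cokernel.π i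
  let φ := adj.homEquiv _ _ b
  refine ⟨kernel φ, kernel.ι φ, inferInstance, inferInstanceAs (kernel φ).IsQuasicoherent, ⟨?_⟩⟩
  have : PreservesFiniteLimits F := Props.SubExt.preservesFiniteLimits_restrict U
  have hb : F.map φ ≫ adj.counit.app (cokernel i) = b := by
    exact (Adjunction.homEquiv_counit adj _ _ φ).symm.trans (Equiv.symm_apply_apply _ b)
  have hiso : IsIso (adj.counit.app (cokernel i)) := inferInstance
  refine PreservesKernel.iso F φ ≪≫ (kernelCompMono (F.map φ) (adj.counit.app _)).symm ≪≫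
    kernelIsoOfEq hb ≪≫ kernelIsIsoComp (restrictUnitIso j).hom (cokernel.π i) ≪≫ ?_
  exact (Abelian.monoIsKernelOfCokernel _ (cokernelIsCokernel i)).conePointUniqueUpToIso
    (kernelIsKernel (cokernel.π i)) |>.symm

theorem subsingleton_HH_of_iso {M N : X.Modules} (e : M ≅ N) (n : ℕ)
    [Subsingleton (Coh.HH X M n)] : Subsingleton (Coh.HH X N n) :=
  ⟨fun x y ↦ by
    rw [← CohLin.hMap_id N n x, ← CohLin.hMap_id N n y, ← e.inv_hom_id, CohLin.hMap_comp,
      CohLin.hMap_comp, Subsingleton.elim (CohLin.hMap e.inv n x) (CohLin.hMap e.inv n y)]⟩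

/-- Vanishing on the preimage of an affine open. -/
theorem subsingleton_restrict (f : X ⟶ Y) [QuasiCompact f] [QuasiSeparated f] (M : X.Modules)
    [M.IsQuasicoherent] (h : IsZero ((Coh.RpushAb f 1).obj (Coh.toAb M))) {V : Y.Opens}
    (hV : IsAffineOpen V) :
    Subsingleton (Coh.HH (f ⁻¹ᵁ V : X.Opens)
      ((Scheme.Modules.restrictFunctor (f ⁻¹ᵁ V).ι).obj M) 1) := by
  let R := CohAff.FRes.ofMod M
  have : (R.Z 0).IsQuasicoherent := ‹M.IsQuasicoherent›
  have hT : IsZero ((ModShf.toAbFunctor Y).obj ((Coh.Rpush f 1).obj M)) :=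
    h.of_iso ((ModShf.rpushCompToAb f 1).app M)
  have h1 : IsZero ((Coh.Rpush f 1).obj M) := by
    rw [IsZero.iff_id_eq_zero]
    exact Scheme.Modules.hom_ext _ _ fun W ↦ congrArg (fun t ↦ t.hom.app (op W))
      (hT.eq_of_src ((ModShf.toAbFunctor Y).map (𝟙 _)) ((ModShf.toAbFunctor Y).map 0))
  let R' := R.restrict (f ⁻¹ᵁ V).ι
  have hz : IsZero (R.Rc f 0) := h1.of_iso (R.rpushIsoRc f 0).symm
  refine ⟨fun x y ↦ ?_⟩
  obtain ⟨a, ha⟩ := R'.clsTop_surjective 1 x
  obtain ⟨b, hb⟩ := R'.clsTop_surjective 1 y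
  refine ha.symm.trans (Eq.trans ?_ hb)
  rw [← sub_eq_zero, ← map_sub]
  refine (R'.clsTop_eq_zero_iff 1 _).mpr ?_
  generalize a - b = z
  have e : (f ⁻¹ᵁ V).ι ''ᵁ ⊤ = f ⁻¹ᵁ V := Scheme.Opens.ι_image_top _
  have hπ : R.π' f 0 V (QCoh.res (R.Z 1) e.ge z) = 0 :=
    congrArg (fun t : R.Rc f 0 ⟶ R.Rc f 0 ↦ t.app V (R.π' f 0 V (QCoh.res (R.Z 1) e.ge z)))
      (hz.eq_of_src (𝟙 _) 0)
  have he := (R.ex_of_π'_eq_zero f hV 0 _ hπ).res e.le
  erw [QCoh.res_res, QCoh.res_self] at he
  exact he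

/-- `f` is affine when `R¹f_*` kills the quasi-coherent ideals. -/
theorem isAffineHom_of_R1 (f : X ⟶ Y) [QuasiCompact f] [QuasiSeparatedSpace X]
    [QuasiSeparatedSpace Y]
    (h : ∀ (I : X.Modules) (i : I ⟶ Coh.structureModule X), Mono i → Coh.IsQCoh I →
      IsZero ((Coh.RpushAb f 1).obj (Coh.toAb I))) : IsAffineHom f := by
  refine ⟨fun V hV ↦ ?_⟩
  have : QuasiSeparated f := QuasiSeparated.of_quasiSeparatedSpace f
  have hc : IsCompact ((f ⁻¹ᵁ V : X.Opens) : Set X) :=
    QuasiCompact.isCompact_preimage _ V.2 hV.isCompact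
  have : CompactSpace ↥(f ⁻¹ᵁ V : X.Opens) := isCompact_iff_compactSpace.mp hc
  have : CompactSpace (f ⁻¹ᵁ V : X.Opens).toScheme := this
  change IsAffine (f ⁻¹ᵁ V : X.Opens).toScheme
  refine Props.AffineCrit.serre fun I i hi hI ↦ ?_
  have : Mono i := hi
  have : I.IsQuasicoherent := hI
  obtain ⟨I', i', hi', hq, ⟨e⟩⟩ := exists_extend_ideal (f ⁻¹ᵁ V) i
  have : I'.IsQuasicoherent := hq
  have := subsingleton_restrict f I' (h I' i' hi' hq) hV
  exact subsingleton_HH_of_iso e 1

end Groth.Agent.AmpCrit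

end
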