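import Groth.Agent.AmpCrit.ProjForm
import Groth.Agent.AmpCrit.AffineHom
import Groth.Agent.ProjMorph.VeryAmple
import Groth.Agent.ProjMorph.Base
import Groth.Agent.ProjTwist.Pn.Twist
import Groth.Agent.ProperFin.FiniteMap
import Groth.Agent.ProperFin.Projective
import Groth.Agent.AmpleLib.CompLemma
import Groth.Agent.AmpleLib.GlobGen
import Groth.Agent.PicLaw.Basic
import Groth.Agent.S0012

/-!
# Serre vanishing for an ample module on a proper scheme over a Noetherian ring
-/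

set_option autoImplicit false
set_option linter.style.haveILetI false

universe u

open CategoryTheory Limits AlgebraicGeometry Opposite TopologicalSpace

noncomputable section

namespace Groth.Agent.AmpCrit.SerreVan

open Groth.Agent.QCoh Groth.Agent.Props.GenLocus Groth.Agent.Props.GenTensor
  Groth.Agent.Props.GenProd Groth.Agent.AmpleLib Groth.Agent.ProjTwist Groth.Agent.ProjTwist.Pn

variable {X : Scheme.{u}} {R : Type u} [CommRing R]

theorem generatedBy_of_loci {L : X.Modules} {ι : Type*} [Fintype ι] (s : ι → ProjUP.Γm L)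
    (h : ∀ x : X, ∃ i, x ∈ locus (O := ⊤) (s i)) : ProjUP.GeneratedBy L s := by
  intro x
  obtain ⟨i, hxi⟩ := h x
  have hg := isGen_locus (O := ⊤) (s i)
  have hbij := ((isGen_iff_isFrame _).mp hg).stalkComb_bijective x hxi
  refine top_le_iff.mp fun z _ => ?_
  obtain ⟨a, ha⟩ := hbij.2 z
  rw [← ha]
  simp only [LFFrame.stalkComb, Fintype.linearCombination_apply, Fin.sum_univ_one]
  refine Submodule.smul_mem _ _ (Submodule.subset_span ⟨i, ?_⟩)
  exact (L.presheaf.germ_res_apply _ x hxi (s i)).symm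

/-- A finite morphism to projective space on which a power of an ample module is `O(1)`. -/
theorem exists_finite_toProjSpace (f : X ⟶ Spec (CommRingCat.of R)) [IsProper f] {L : X.Modules}
    (hL : CohB1.IsAmple L) :
    ∃ (c k : ℕ) (r : X ⟶ CohB1.ProjSpace c R), 0 < k ∧ IsFinite r ∧
      r ≫ CohB1.ProjSpace.toSpec c R = f ∧
      Nonempty ((Scheme.Modules.pullback r).obj (Twist.twistProjSpace c R 1) ≅
        CohB1.tensorPow L k) := by
  classical
  obtain ⟨c, k, s, U, hk, hU, hUa, -, hcov⟩ := exists_common_cover hL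
  let M := CohB1.tensorPow L k
  have hM : PicF.IsInvertible M := isInvertible_tensorPow hL.1 k
  let σ : Fin (c + 1) → ProjUP.Γm M := fun j => if hj : (j : ℕ) < c then sec (s ⟨j, hj⟩) ⊤ else 0
  have hσ : ∀ i : Fin c, locus (O := ⊤) (σ i.castSucc) = U i := fun i => by
    simp only [σ, Fin.val_castSucc, i.2, dif_pos, Fin.eta]
    rw [hU, genLocus_eq_locus]
  have hcov' : ∀ x : X, ∃ i, x ∈ locus (O := ⊤) (σ i) := fun x => by
    obtain ⟨i, hi⟩ := Opens.mem_iSup.mp (hcov (trivial : x ∈ (⊤ : X.Opens)))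
    exact ⟨i.castSucc, (hσ i).ge hi⟩
  have haff : ∀ j, IsAffineOpen (locus (O := ⊤) (σ j)) := fun j => by
    by_cases hj : (j : ℕ) < c
    · have : j = (⟨j, hj⟩ : Fin c).castSucc := rfl
      rw [this, hσ]
      exact hUa _
    · have hbot : locus (O := ⊤) (σ j) = ⊥ := by
        simp only [σ, dif_neg hj]
        rw [← zero_smul Γ(X, ⊤) (0 : Γ(M, ⊤)), locus_smul hM, Scheme.basicOpen_zero, bot_inf_eq]
      rw [hbot]
      exact isAffineOpen_bot X
  let q₀ : R →+* Γ(X, ⊤) := ProjUP.toGlobal f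
  let t : Fin (c + 1) → MvPolynomial (Fin (c + 1)) R := fun i => MvPolynomial.X i
  have ht : ∀ i, t i ∈ CohB1.polyGrading c R 1 := fun i => MvPolynomial.isHomogeneous_X R i
  obtain ⟨r, τ, hr, hpre, -, -⟩ := ProjMorph.exists_to_proj (𝒜 := CohB1.polyGrading c R) t ht
    MvPolynomial.adjoin_range_X q₀ hM σ (generatedBy_of_loci σ hcov') fun i cc _ =>
      ⟨MvPolynomial.eval₂Hom ((rres le_top).hom.comp q₀) cc,
        RingHom.ext fun a => MvPolynomial.eval₂Hom_C _ _ a, fun j => MvPolynomial.eval₂Hom_X' _ _ j⟩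
  have hrf : r ≫ CohB1.ProjSpace.toSpec c R = f := hr.trans (ProjMorph.toSpecΓ_toGlobal f)
  have hra : IsAffineHom r := by
    have htop : (⨆ i, Proj.basicOpen (CohB1.polyGrading c R) (t i)) = ⊤ :=
      ProjMorph.iSup_basicOpen_gen t ht MvPolynomial.adjoin_range_X
    rw [HasAffineProperty.iff_of_iSup_eq_top (P := @IsAffineHom)
      (fun i => ⟨_, Proj.isAffineOpen_basicOpen _ _ (ht i) one_pos⟩) htop]
    intro i
    change IsAffineOpen (r ⁻¹ᵁ Proj.basicOpen (CohB1.polyGrading c R) (t i))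
    rw [hpre]
    exact haff i
  have := ProjProper.Basic.isProper_toSpec c R
  have : IsProper (r ≫ CohB1.ProjSpace.toSpec c R) := hrf ▸ ‹IsProper f›
  have : IsProper r := IsProper.of_comp r (CohB1.ProjSpace.toSpec c R)
  exact ⟨c, k, r, hk, IsFinite.iff_isProper_and_isAffineHom.mpr ⟨‹_›, hra⟩, hrf, ⟨τ⟩⟩

/-- `L^j ⊗ L^m ≅ L^(j+m)`. -/
def powAddIso (L : X.Modules) (j : ℕ) : ∀ m,
    CohB1.tensorMod (CohB1.tensorPow L j) (CohB1.tensorPow L m) ≅ CohB1.tensorPow L (j + m)
  | 0 => tensOne _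
  | m + 1 => (tensAssoc _ _ L).symm ≪≫ tensCongr (powAddIso L j m) (Iso.refl L)

/-- Pullback of `O(d)`. -/
theorem nonempty_pullback_twist {c : ℕ} (r : X ⟶ CohB1.ProjSpace c R) : ∀ d : ℕ,
    Nonempty ((Scheme.Modules.pullback r).obj (Twist.twistProjSpace c R (d : ℤ)) ≅
      CohB1.tensorPow ((Scheme.Modules.pullback r).obj (Twist.twistProjSpace c R 1)) d)
  | 0 => ⟨(Scheme.Modules.pullback r).mapIso (twistZeroIso (CohB1.polyGrading c R)).symm ≪≫
      QCoh.pullbackUnitIso r⟩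
  | d + 1 => by
    obtain ⟨e⟩ := nonempty_pullback_twist r d
    obtain ⟨e₁⟩ := nonempty_twistProjSpace_tensor c R (d : ℤ) 1
    obtain ⟨e₂⟩ := PicLaw.pullback_tensor r (isInvertible_twistProjSpace c R (d : ℤ))
      (isInvertible_twistProjSpace c R 1)
    exact ⟨(Scheme.Modules.pullback r).mapIso (eqToIso (by rw [Nat.cast_succ]) ≪≫ e₁.symm) ≪≫ e₂ ≪≫
      tensCongr e (Iso.refl _)⟩

/-- Serre vanishing. -/
theorem serre_vanishing [IsNoetherianRing R] (f : X ⟶ Spec (CommRingCat.of R)) [IsProper f]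
    {L : X.Modules} (hL : CohB1.IsAmple L) (M : X.Modules) (hM : Coh.IsCoh M) :
    ∃ n₀ : ℕ, ∀ n : ℕ, n₀ ≤ n → ∀ p : ℕ, 0 < p →
      Subsingleton (Coh.HH X (CohB1.tensorMod M (CohB1.tensorPow L n)) p) := by
  obtain ⟨c, k, r, hk, hr, -, ⟨τ⟩⟩ := exists_finite_toProjSpace f hL
  have := ProjTwist.Pn.isLocallyNoetherian_projSpace c R
  have hcoh : ∀ j, Coh.IsCoh (CohB1.tensorMod M (CohB1.tensorPow L j)) := fun j => by
    have hj := isInvertible_tensorPow hL.1 j
    have := hM.1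
    have := hM.2
    have : (CohB1.tensorPow L j).IsQuasicoherent := isQCoh_of_isInvertible hj
    have : SheafOfModules.IsFiniteType.{u} (CohB1.tensorPow L j) :=
      isFiniteType_of_forall_exists _ fun x => by
        obtain ⟨U, e, hxU, he⟩ := exists_isGen hj x
        obtain ⟨T, hT, hxT, hTU⟩ := exists_isAffineOpen_mem_and_subset (X := X) (x := x) (U := U) hxU
        refine ⟨T, hT, hxT, Module.Finite.of_surjective
          (LinearMap.toSpanSingleton Γ(X, T) Γ(CohB1.tensorPow L j, T) (res _ hTU e)) fun z => ?_⟩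
        obtain ⟨a, ha, -⟩ := he.exists_eq hTU z
        exact ⟨a, ha.symm⟩
    exact ⟨LimTop.TensorQC.isQuasicoherent_tensM M _, LimTop.TensorQC.isFT_tensM M _⟩
  choose d₀ hd₀ using fun j : Fin k => ProjTwist.Pn.serre_vanishing _
    (ProperFin.isCoh_push_of_isFinite r _ (hcoh j))
  obtain ⟨D, hD⟩ : ∃ D : ℕ, ∀ j, d₀ j ≤ (D : ℤ) := by
    obtain ⟨B, hB⟩ := (Set.finite_range d₀).bddAbove
    exact ⟨B.toNat, fun j => (hB ⟨j, rfl⟩).trans (Int.self_le_toNat B)⟩
  refine ⟨k * D, fun n hn p hp => ?_⟩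
  obtain ⟨j, d, hj, rfl⟩ : ∃ j d, j < k ∧ n = j + k * d :=
    ⟨n % k, n / k, Nat.mod_lt _ hk, (Nat.mod_add_div n k).symm⟩
  have hd : D ≤ d := by
    by_contra hlt
    have : k * (d + 1) ≤ k * D := Nat.mul_le_mul_left k (by omega)
    rw [Nat.mul_succ] at this
    omega
  let F := CohB1.tensorMod M (CohB1.tensorPow L j)
  obtain ⟨π⟩ := ProjForm.nonempty_projIso r F (E := Twist.twistProjSpace c R (d : ℤ))
    (isInvertible_twistProjSpace c R (d : ℤ))
  have h1 : Subsingleton (Coh.HH (CohB1.ProjSpace c R)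
      (twF ((Scheme.Modules.pushforward r).obj F) (d : ℤ)) p) :=
    hd₀ ⟨j, hj⟩ (d : ℤ) ((hD _).trans (by exact_mod_cast hd)) p hp
  have h2 : Subsingleton (Coh.HH (CohB1.ProjSpace c R) (ProjForm.cod r F
      (Twist.twistProjSpace c R (d : ℤ))) p) := AmpCrit.subsingleton_HH_of_iso π p
  let N := CohB1.tensorMod F ((Scheme.Modules.pullback r).obj (Twist.twistProjSpace c R (d : ℤ)))
  have hN : Coh.IsQCoh N := by
    have : F.IsQuasicoherent := (hcoh j).1
    have : (Twist.twistProjSpace c R (d : ℤ)).IsQuasicoherent := isQCoh_twistProjSpace c R _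
    have := QCoh.isQuasicoherent_pullback r (Twist.twistProjSpace c R (d : ℤ))
    exact LimTop.TensorQC.isQuasicoherent_tensM F _
  have := hN
  obtain ⟨a⟩ := S0012.result r N p
  have h3 : Subsingleton (Coh.HH X N p) :=
    @Equiv.subsingleton _ _ a.toEquiv h2
  obtain ⟨e₁⟩ := nonempty_pullback_twist r d
  obtain ⟨φ, -⟩ := exists_iso_tensorPow_mul hL.1 k d
  exact AmpCrit.subsingleton_HH_of_iso (tensCongr (Iso.refl F) (e₁ ≪≫ tensorPowIso τ d ≪≫ φ) ≪≫
    tensAssoc _ _ _ ≪≫ tensCongr (Iso.refl M)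
      (powAddIso L j (k * d))) p

end Groth.Agent.AmpCrit.SerreVan

end
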