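import Groth.Agent.Props.AffineCritFT
import Groth.Agent.S0016
import Groth.Agent.CohLin.Basic

/-!
# Quasi-affine schemes with acyclic structure sheaf

The kernel of `(y_j) ↦ Σ y_j f_j` has a resolution by finite free modules, so its `H¹` vanishes.
-/

set_option autoImplicit false

universe u

open CategoryTheory Limits AlgebraicGeometry Opposite TopologicalSpace

noncomputable section

namespace Groth.Agent.AmpCrit.Acyclic

open Groth.Agent.QCoh Groth.Agent.Props.GenLocus Groth.Agent.Props.AffineCrit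
  Groth.Agent.Props.AffineCritFT

variable {X : Scheme.{u}}

/-- A morphism on sections, linearly. -/
def appLin {M N : X.Modules} (φ : M ⟶ N) (U : X.Opens) : Γ(M, U) →ₗ[Γ(X, U)] Γ(N, U) where
  toFun := φ.app U
  map_add' := map_add _
  map_smul' r x := Scheme.Modules.Hom.app_smul φ r x

/-- Quasi-coherent with finite projective sections on the given opens. -/
def FP {κ : Type} (U : κ → X.Opens) (M : X.Modules) : Prop :=
  M.IsQuasicoherent ∧ ∀ k, Module.Finite Γ(X, U k) Γ(M, U k) ∧ Module.Projective Γ(X, U k) Γ(M, U k)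

variable {κ : Type} {U : κ → X.Opens}

lemma fp_structureModule : FP U (Coh.structureModule X) :=
  ⟨ProjTwist.isQuasicoherent_structureModule X, fun k =>
    ⟨Module.Finite.self Γ(X, U k), (inferInstance : Module.Projective Γ(X, U k) Γ(X, U k))⟩⟩

theorem fp_X₂ (hU : ∀ k, IsAffineOpen (U k)) {S : ShortComplex X.Modules} (hS : S.ShortExact)
    (h1 : FP U S.X₁) (h3 : FP U S.X₃) : FP U S.X₂ := by
  have := h1.1; have := h3.1
  have hq : S.X₂.IsQuasicoherent := QCoh.isQuasicoherent_X₂ S hS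
  refine ⟨hq, fun k => ?_⟩
  obtain ⟨hf1, hp1⟩ := h1.2 k
  obtain ⟨hf3, hp3⟩ := h3.2 k
  have := hS.mono_f; have := hS.epi_g
  obtain ⟨s, hs⟩ := Module.projective_lifting_property (appLin S.g (U k)) LinearMap.id
    (app_surjective_of_epi S.g (hU k))
  have hgs : ∀ b, appLin S.g (U k) (s b) = b := fun b => LinearMap.congr_fun hs b
  have hgf : ∀ a, appLin S.g (U k) (appLin S.f (U k) a) = 0 := app_app_eq_zero S (U k)
  let e := (appLin S.f (U k)).coprod s
  have he : Function.Bijective e := by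
    refine ⟨(injective_iff_map_eq_zero e).mpr ?_, fun x => ?_⟩
    · rintro ⟨a, b⟩ h
      change appLin S.f (U k) a + s b = 0 at h
      have hb : b = 0 := by
        have := congrArg (appLin S.g (U k)) h
        rwa [map_add, hgf, hgs, zero_add, map_zero] at this
      subst hb
      rw [map_zero, add_zero] at h
      exact Prod.ext (app_injective_of_mono S.f (U k) (h.trans (map_zero _).symm)) rfl
    · obtain ⟨a, ha⟩ := exists_app_eq_of_app_eq_zero S hS.exact (U k)
        (x - s (appLin S.g (U k) x)) (by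
          change appLin S.g (U k) _ = 0
          rw [map_sub, hgs, sub_self])
      exact ⟨(a, appLin S.g (U k) x), by
        change appLin S.f (U k) a + s _ = x
        rw [show appLin S.f (U k) a = _ from ha]
        exact sub_add_cancel _ _⟩
  exact ⟨Module.Finite.equiv (LinearEquiv.ofBijective e he),
    Module.Projective.of_equiv (LinearEquiv.ofBijective e he)⟩

theorem fp_X₁ (hU : ∀ k, IsAffineOpen (U k)) {S : ShortComplex X.Modules} (hS : S.ShortExact)
    (h2 : FP U S.X₂) (h3 : FP U S.X₃) : FP U S.X₁ := by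
  have := h2.1; have := h3.1
  have := hS.mono_f; have := hS.epi_g
  have hq : S.X₁.IsQuasicoherent := QCoh.isQuasicoherent_X₁ S hS.exact
  refine ⟨hq, fun k => ?_⟩
  obtain ⟨hf2, hp2⟩ := h2.2 k
  obtain ⟨hf3, hp3⟩ := h3.2 k
  let f := appLin S.f (U k)
  let g := appLin S.g (U k)
  obtain ⟨s, hs⟩ := Module.projective_lifting_property g LinearMap.id
    (app_surjective_of_epi S.g (hU k))
  have hgs : ∀ b, g (s b) = b := fun b => LinearMap.congr_fun hs b
  have hf : Function.Injective f := app_injective_of_mono S.f (U k)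
  have hrange : LinearMap.range f = LinearMap.ker g := by
    ext x
    exact ⟨fun ⟨a, ha⟩ => ha ▸ app_app_eq_zero S (U k) a,
      fun hx => exists_app_eq_of_app_eq_zero S hS.exact (U k) x hx⟩
  let e : Γ(S.X₁, U k) ≃ₗ[Γ(X, U k)] LinearMap.ker g :=
    (LinearEquiv.ofInjective f hf).trans (LinearEquiv.ofEq _ _ hrange)
  let p : Γ(S.X₂, U k) →ₗ[Γ(X, U k)] LinearMap.ker g :=
    LinearMap.codRestrict (LinearMap.ker g) (LinearMap.id - s ∘ₗ g) fun x => by
      simp [hgs]
  have hp : p ∘ₗ (LinearMap.ker g).subtype = LinearMap.id := by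
    ext ⟨x, hx⟩
    simp [p, show g x = 0 from hx]
  have : Module.Projective Γ(X, U k) (LinearMap.ker g) := Module.Projective.of_split _ p hp
  have : Module.Finite Γ(X, U k) (LinearMap.ker g) :=
    Module.Finite.of_surjective p fun x => ⟨x.1, LinearMap.congr_fun hp x⟩
  exact ⟨Module.Finite.equiv e.symm, Module.Projective.of_equiv e.symm⟩

theorem fp_pr (hU : ∀ k, IsAffineOpen (U k)) : ∀ r, FP U (pr X r)
  | 0 => fp_structureModule
  | r + 1 => fp_X₂ hU (S := ShortComplex.mk
      (biprod.inl : pr X r ⟶ pr X r ⊞ Coh.structureModule X) biprod.snd biprod.inl_snd)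
    (ShortComplex.Splitting.ofHasBinaryBiproduct _ _).shortExact (fp_pr hU r) fp_structureModule

/-- A map of quasi-coherent modules surjective on an affine cover is an epimorphism. -/
theorem epi_of_surjective {κ : Type*} (U : κ → X.Opens) (hU : ∀ k, IsAffineOpen (U k))
    (hcov : ∀ x : X, ∃ k, x ∈ U k) {P M : X.Modules} [P.IsQuasicoherent] [M.IsQuasicoherent]
    (ψ : P ⟶ M) (hsurj : ∀ k, Function.Surjective (appLin ψ (U k))) : Epi ψ := by
  refine Preadditive.epi_of_isZero_cokernel _ ((IsZero.iff_id_eq_zero _).mpr ?_)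
  have hCU : ∀ k (x : Γ(cokernel ψ, U k)), x = 0 := fun k x => by
    obtain ⟨m, rfl⟩ := app_surjective_of_epi (cokernel.π ψ) (hU k) x
    obtain ⟨y, rfl⟩ := hsurj k m
    exact app_app_eq_zero (ShortComplex.mk ψ (cokernel.π ψ) (cokernel.condition ψ)) _ y
  have hC : (cokernel ψ).IsQuasicoherent := inferInstance
  refine Scheme.Modules.hom_ext _ _ fun V => ?_
  ext x
  change x = 0
  have key : ∀ y : V, ∃ (k : κ) (r : Γ(X, U k)),
      y.1 ∈ X.basicOpen r ∧ X.basicOpen r ≤ V := fun y => by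
    obtain ⟨k, hk⟩ := hcov y.1
    obtain ⟨r, hr1, hr2⟩ := (hU k).exists_basicOpen_le ⟨y.1, y.2⟩ hk
    exact ⟨k, r, hr2, hr1⟩
  choose k r hy hr using key
  refine eq_zero_of_locally_eq_zero _ hr (fun y hyV => Opens.mem_iSup.mpr ⟨⟨y, hyV⟩, hy _⟩) x
    fun y => ?_
  obtain ⟨hs, -⟩ := (QCoh.isQuasicoherent_iff_forall_isAffineOpen _).mp hC _ (hU (k y)) (r y)
  obtain ⟨m, a, ha⟩ := hs (res (cokernel ψ) (hr y) x)
  rw [hCU (k y) a, map_zero] at ha
  have hu : IsUnit (rres (X.basicOpen_le (r y)) (r y)) :=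
    RingedSpace.isUnit_res_basicOpen X.toRingedSpace (r y)
  exact (hu.pow m).smul_eq_zero.mp ha.symm

/-- Finitely many generators on affine basic opens give an epimorphism from a free module. -/
theorem exists_epi_pr [CompactSpace X] [QuasiSeparatedSpace X] [Finite κ] (g : κ → Γ(X, ⊤))
    (hU : ∀ k, IsAffineOpen (X.basicOpen (g k))) (hcov : ∀ x : X, ∃ k, x ∈ X.basicOpen (g k))
    {M : X.Modules} [M.IsQuasicoherent]
    (hM : ∀ k, Module.Finite Γ(X, X.basicOpen (g k)) Γ(M, X.basicOpen (g k))) :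
    ∃ (r : ℕ) (ψ : pr X r ⟶ M), Epi ψ := by
  classical
  have := Fintype.ofFinite κ
  choose n c hc using fun k => Module.Finite.exists_fin (R := Γ(X, X.basicOpen (g k)))
    (M := Γ(M, X.basicOpen (g k)))
  let T := (k : κ) × Fin (n k)
  choose N t ht using fun p : T => (isLocalizingAt_of_qcqs M (U := ⊤) isCompact_univ
    isQuasiSeparated_univ (g p.1)).surj (c p.1 p.2)
  let e := Fintype.equivFin T
  let σ : ℕ → Γ(M, ⊤) := fun k => if hk : k < Fintype.card T then t (e.symm ⟨k, hk⟩) else 0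
  let ψ := sumHom σ (Fintype.card T)
  refine ⟨_, ψ, ?_⟩
  have hsurj : ∀ k, Function.Surjective (appLin ψ (X.basicOpen (g k))) := fun k => by
    rw [← LinearMap.range_eq_top, ← top_le_iff, ← hc k, Submodule.span_le]
    rintro _ ⟨q, rfl⟩
    let p : T := ⟨k, q⟩
    obtain ⟨w, hw⟩ := exists_factor σ (Fintype.card T) (e p) (e p).2.le
    have hσ : σ (e p) = t p := by
      simp only [σ, (e p).2, dif_pos, Fin.eta, Equiv.symm_apply_apply]
    have hu : IsUnit (rres (X.basicOpen_le (g k)) (g k)) :=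
      RingedSpace.isUnit_res_basicOpen X.toRingedSpace (g k)
    obtain ⟨v, hv⟩ := isUnit_iff_exists_inv'.mp (hu.pow (N p))
    refine ⟨v • sec w (X.basicOpen (g k)), ?_⟩
    rw [map_smul]
    change v • sec (w ≫ ψ) _ = c k q
    rw [hw, sec_homOfSec, hσ, show res M (le_top : X.basicOpen (g k) ≤ ⊤) (t p) = _ from ht p,
      smul_smul]
    refine (congrArg (· • c k q) ?_).trans (one_smul _ _)
    simpa only [map_pow] using hv
  exact epi_of_surjective _ hU hcov ψ hsurj

theorem subsingleton_HH_pr (h : ∀ p : ℕ, 0 < p → Subsingleton (Coh.HH X (Coh.structureModule X) p))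
    {p : ℕ} (hp : 0 < p) : ∀ r, Subsingleton (Coh.HH X (pr X r) p)
  | 0 => h p hp
  | r + 1 => by
    have : Subsingleton (Coh.HH X (ShortComplex.mk (biprod.inl : pr X r ⟶ pr X r ⊞ Coh.structureModule X)
        biprod.snd biprod.inl_snd).X₁ p) := subsingleton_HH_pr h hp r
    have : Subsingleton (Coh.HH X (ShortComplex.mk (biprod.inl : pr X r ⟶ pr X r ⊞ Coh.structureModule X)
        biprod.snd biprod.inl_snd).X₃ p) := h p hp
    exact CohLin.subsingleton_X₂ (S := ShortComplex.mk
      (biprod.inl : pr X r ⟶ pr X r ⊞ Coh.structureModule X) biprod.snd biprod.inl_snd)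
      (ShortComplex.Splitting.ofHasBinaryBiproduct _ _).shortExact

/-- Vanishing for locally free modules of finite rank. -/
theorem subsingleton_HH_fp [CompactSpace X] [QuasiSeparatedSpace X] [Finite κ] (g : κ → Γ(X, ⊤))
    (hU : ∀ k, IsAffineOpen (X.basicOpen (g k))) (hcov : ∀ x : X, ∃ k, x ∈ X.basicOpen (g k))
    (h : ∀ p : ℕ, 0 < p → Subsingleton (Coh.HH X (Coh.structureModule X) p))
    {M : X.Modules} (hM : FP (fun k => X.basicOpen (g k)) M) {p : ℕ} (hp : 0 < p) :
    Subsingleton (Coh.HH X M p) := by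
  obtain ⟨d, hd⟩ := S0016.result X
  suffices ∀ m, ∀ M : X.Modules, FP (fun k => X.basicOpen (g k)) M →
      ∀ p, 0 < p → d ≤ p + m → Subsingleton (Coh.HH X M p) from this d M hM p hp (Nat.le_add_left _ _)
  intro m
  induction m with
  | zero => exact fun M hM p _ hp => hd M hM.1 p hp
  | succ m ih =>
    intro M hM p hp hle
    have := hM.1
    obtain ⟨r, ψ, hψ⟩ := exists_epi_pr g hU hcov fun k => (hM.2 k).1
    let S := ShortComplex.mk (kernel.ι ψ) ψ (kernel.condition _)
    have hS : S.ShortExact := { exact := ShortComplex.exact_kernel _ }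
    have : Subsingleton (Coh.HH X S.X₂ p) := subsingleton_HH_pr h hp r
    have : Subsingleton (Coh.HH X S.X₁ (p + 1)) :=
      ih _ (fp_X₁ hU hS (fp_pr hU r) hM) (p + 1) p.succ_pos (by omega)
    exact CohLin.subsingleton_X₃ hS

/-- A quasi-affine scheme with acyclic structure sheaf is affine. -/
theorem isAffine [X.IsQuasiAffine]
    (h : ∀ p : ℕ, 0 < p → Subsingleton (Coh.HH X (Coh.structureModule X) p)) : IsAffine X := by
  classical
  let P := {t : Γ(X, ⊤) // IsAffineOpen (X.basicOpen t)}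
  obtain ⟨F, hF⟩ := isCompact_univ.elim_finite_subcover (fun t : P => (X.basicOpen t.1 : Set X))
    (fun t => (X.basicOpen t.1).2) fun x _ => by
      obtain ⟨_, ⟨r, hr, rfl⟩, hxr, -⟩ := Opens.isBasis_iff_nbhd.mp
        (Scheme.IsQuasiAffine.isBasis_basicOpen X) (U := ⊤) (x := x) trivial
      exact Set.mem_iUnion.mpr ⟨⟨r, hr⟩, hxr⟩
  let f : ℕ → Γ(X, ⊤) := fun j => if hj : j < F.card then (F.equivFin.symm ⟨j, hj⟩).1.1 else 0
  let g : Fin (F.card + 1) → Γ(X, ⊤) := fun j => f j
  have haff : ∀ j, IsAffineOpen (X.basicOpen (f j)) := fun j => by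
    simp only [f]
    split_ifs with hj
    · exact (F.equivFin.symm ⟨j, hj⟩).1.2
    · rw [Scheme.basicOpen_zero]; exact isAffineOpen_bot X
  have hcov : ∀ x : X, ∃ j ≤ F.card, x ∈ X.basicOpen (f j) := fun x => by
    obtain ⟨t, ht, hxt⟩ := Set.mem_iUnion₂.mp (hF (Set.mem_univ x))
    refine ⟨F.equivFin ⟨t, ht⟩, (F.equivFin ⟨t, ht⟩).2.le, ?_⟩
    simp only [f, (F.equivFin ⟨t, ht⟩).2, dif_pos, Fin.eta, Equiv.symm_apply_apply]
    exact hxt
  have := epi_phi f hcov
  let S := ShortComplex.mk (kernel.ι (phi f F.card)) (phi f F.card) (kernel.condition _)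
  have hS : S.ShortExact := { exact := ShortComplex.exact_kernel _ }
  have hU : ∀ k, IsAffineOpen (X.basicOpen (g k)) := fun k => haff _
  have : Subsingleton (Coh.HH X S.X₁ 1) := subsingleton_HH_fp g hU
    (fun x => let ⟨j, hj, hx⟩ := hcov x; ⟨⟨j, Nat.lt_succ_of_le hj⟩, hx⟩) h
    (fp_X₁ hU hS (fp_pr hU _) fp_structureModule) one_pos
  obtain ⟨y, hy⟩ := CohLin.exists_hMap_g_eq hS
    ((Sheaf.H.equiv₀ (Coh.toAb S.X₃) isTerminalTop).symm (1 : Γ(X, ⊤))) (Subsingleton.elim _ _)
  have h2 := Sheaf.H.equiv₀_naturality (hT := isTerminalTop) (f := CohLin.abMap S.g) y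
  rw [show Sheaf.H.map (CohLin.abMap S.g) 0 y = _ from hy] at h2
  rw [(Sheaf.H.equiv₀ (Coh.toAb S.X₃) isTerminalTop).apply_symm_apply] at h2
  have hspan : Ideal.span (f '' {j | j ≤ F.card}) = ⊤ := by
    rw [Ideal.eq_top_iff_one]
    exact Eq.mp (congrArg (· ∈ Ideal.span (f '' {j | j ≤ F.card})) h2)
      (mem_span f F.card (Sheaf.H.equiv₀ (Coh.toAb S.X₂) isTerminalTop y))
  refine isAffine_of_isAffineOpen_basicOpen _ hspan ?_
  rintro _ ⟨j, -, rfl⟩
  exact haff j

end Groth.Agent.AmpCrit.Acyclic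

end
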