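import Groth.Agent.Props.AffineCrit
import Groth.Agent.AmpleLib.Ideal

/-!
# Ampleness from the vanishing of `H¹` of twisted ideals
-/

set_option autoImplicit false

universe u

open CategoryTheory Limits AlgebraicGeometry Opposite TopologicalSpace

noncomputable section

namespace Groth.Agent.AmpCrit

open Groth.Agent.QCoh Groth.Agent.Props.GenLocus Groth.Agent.Props.GenTensor
  Groth.Agent.Props.GenProd Groth.Agent.AmpleLib Groth.Agent.IdealSh.IdealMod

variable {X : Scheme.{u}} {L : X.Modules}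

/-- The section argument of Serre, with twists. -/
theorem exists_locus_le (hL : PicF.IsInvertible L) {K : ℕ} {U V : X.Opens} {e : Γ(L, U)}
    (he : IsGen L U e) {x : X} (hx : x ∈ U) (hxV : x ∉ V) (hUV : U ⊔ V = ⊤) (I : X.IdealSheafData)
    (hI : (I.support : Set X) = ((U ⊓ V : X.Opens) : Set X)ᶜ)
    [Subsingleton (Coh.HH X (CohB1.tensorMod (ClSub.idealMod I) (CohB1.tensorPow L K)) 1)] :
    ∃ t : Coh.structureModule X ⟶ CohB1.tensorPow L K,
      x ∈ CohB1.genLocus _ t ∧ CohB1.genLocus _ t ≤ U := by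
  let G := CohB1.tensorMod (ClSub.idealMod I) (CohB1.tensorPow L K)
  obtain ⟨s₁, hs₁⟩ := Props.AffineCrit.exists_sect_one I (W := U ⊓ V) (hI ▸ disjoint_compl_right)
  have heW := he.restrict (inf_le_left : U ⊓ V ≤ U)
  obtain ⟨a, b, hab⟩ := Props.MayerVietoris.exists_sub_eq (X := X.toPresheafedSpace.carrier)
    (Coh.toAb G) hUV (tmul s₁ (pw L (res L (inf_le_left : U ⊓ V ≤ U) e) K))
  have hab' : res G (inf_le_left : U ⊓ V ≤ U) a - res G (inf_le_right : U ⊓ V ≤ V) b =
      tmul s₁ (pw L (res L (inf_le_left : U ⊓ V ≤ U) e) K) := hab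
  obtain ⟨ta, hta⟩ := exists_contract_on hL (ClSub.idealModι I) (O := U) a
  obtain ⟨tb, htb⟩ := exists_contract_on hL (ClSub.idealModι I) (O := V) b
  have hca := hta (U ⊓ V) inf_le_left _ heW
  have hcb := htb (U ⊓ V) inf_le_right _ heW
  have hdiff : co K ta inf_le_left heW = co K tb inf_le_right heW + 1 := by
    have h1 : coF heW (res G (inf_le_left : U ⊓ V ≤ U) a) =
        coF heW (res G (inf_le_right : U ⊓ V ≤ V) b) + s₁ :=
      coF_eq heW _ (by rw [tmul_add_left, coF_spec, ← hab', add_sub_cancel])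
    rw [hca, hcb, h1]
    exact (map_add (OmegaSh.idealSect I (U ⊓ V)) _ _).trans (congrArg₂ (· + ·) rfl hs₁)
  let F := CohB1.tensorPow L K
  obtain ⟨t, ht⟩ := exists_glue F (U := fun i : Bool => cond i U V) (V := ⊤) (fun _ => le_top)
    (hUV ▸ sup_le (le_iSup (fun i : Bool => cond i U V) true) (le_iSup (fun i : Bool => cond i U V) false))
    (fun i => match i with | true => ta - pw L e K | false => tb) (by
      have key : res F (inf_le_left : U ⊓ V ≤ U) (ta - pw L e K) = res F inf_le_right tb := by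
        rw [map_sub, co_spec ta inf_le_left heW, co_spec tb inf_le_right heW, hdiff, add_smul,
          one_smul, res_pw, add_sub_cancel_right]
      intro i j
      cases i <;> cases j
      · rfl
      · have h2 := congrArg (res F (le_inf inf_le_right inf_le_left : V ⊓ U ≤ U ⊓ V)) key
        rw [res_res, res_res] at h2
        exact h2.symm
      · exact key
      · rfl)
  refine ⟨homOfSec t, ?_, ?_⟩ <;> rw [genLocus_homOfSec]
  · have h1 : x ∈ X.basicOpen (co K ta le_rfl he - 1) := by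
      have h2 := Props.AffineCrit.notMem_basicOpen_sect I (coF he (res G le_rfl a))
        (y := x) (hI ▸ fun h => hxV h.2)
      rw [show OmegaSh.idealSect I U (coF he (res G le_rfl a)) = co K ta le_rfl he from
        (hta U le_rfl e he).symm] at h2
      rw [X.mem_basicOpen _ x hx] at h2 ⊢
      rw [map_sub, map_one]
      rcases IsLocalRing.isUnit_or_isUnit_of_add_one (a := X.presheaf.germ U x hx (co K ta le_rfl he))
        (b := 1 - X.presheaf.germ U x hx (co K ta le_rfl he)) (by ring) with h | h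
      · exact absurd h h2
      · simpa using h.neg
    have h3 := locus_inf (le_top : U ≤ ⊤) (isGen_pw he K) t (f := co K ta le_rfl he - 1) (by
      refine (ht true).trans ?_
      change ta - pw L e K = _
      rw [sub_smul, one_smul, ← co_spec ta le_rfl he, res_self])
    rw [← h3] at h1
    exact h1.1
  · intro y hy
    by_contra hyU
    have hyV : y ∈ V := ((hUV.ge (trivial : y ∈ (⊤ : X.Opens)) : y ∈ U ⊔ V)).resolve_left hyU
    obtain ⟨W₀, w, hyW₀, hw⟩ := exists_isGen hL y
    have hw' := hw.restrict (inf_le_left : W₀ ⊓ V ≤ W₀)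
    have h1 : y ∈ locus t ⊓ (W₀ ⊓ V) := ⟨hy, hyW₀, hyV⟩
    rw [locus_inf le_top (isGen_pw hw' K) t (f := co K tb inf_le_right hw') (by
      rw [← co_spec tb inf_le_right hw', ← res_res F (le_top : V ≤ ⊤) inf_le_right]
      exact congrArg (res F inf_le_right) (ht false)), htb _ inf_le_right _ hw'] at h1
    exact Props.AffineCrit.notMem_basicOpen_sect I _ (hI ▸ fun h => hyU h.1) h1

/-- Ampleness from `H¹(X, I ⊗ L^(n+1)) = 0`. -/
theorem isAmple_of_H1 [CompactSpace X] (hL : PicF.IsInvertible L)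
    (h : ∀ (I : X.Modules) (i : I ⟶ Coh.structureModule X), Mono i → Coh.IsQCoh I →
      ∃ n : ℕ, Subsingleton (Coh.HH X (CohB1.tensorMod I (CohB1.tensorPow L (n + 1))) 1)) :
    CohB1.IsAmple L := by
  let P := {p : Σ n : ℕ, (Coh.structureModule X ⟶ CohB1.tensorPow L (n + 1)) //
    IsAffineOpen (CohB1.genLocus _ p.2)}
  have hcov : (⨆ p : P, CohB1.genLocus _ p.1.2) = ⊤ := Props.AffineCrit.eq_top_of_closed_points
    fun x hxc => by
    obtain ⟨⟨U, hU⟩, e, hx, he⟩ := exists_affine_gen hL x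
    let V : X.Opens := ⟨{x}ᶜ, hxc.isOpen_compl⟩
    let I := Scheme.IdealSheafData.vanishingIdeal (X := X)
      ⟨((U ⊓ V : X.Opens) : Set X)ᶜ, (U ⊓ V).2.isClosed_compl⟩
    obtain ⟨n, hn⟩ := h _ (ClSub.idealModι I) (inferInstanceAs (Mono (kernel.ι _)))
      (isQCoh_idealMod I)
    obtain ⟨t, hxt, hle⟩ := exists_locus_le hL (K := n + 1) (V := V) he hx (fun h => h rfl)
      (top_le_iff.mp fun y _ => by
        by_cases hy : y = x
        · exact Or.inl (hy ▸ hx)
        · exact Or.inr hy) I (Scheme.IdealSheafData.coe_support_vanishingIdeal _)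
    exact Opens.mem_iSup.mpr
      ⟨⟨⟨n, t⟩, isAffineOpen_genLocus_of_le (isInvertible_tensorPow hL _) t hU hle⟩, hxt⟩
  refine ⟨hL, inferInstance, fun x => ?_⟩
  obtain ⟨⟨⟨n, t⟩, ht⟩, hxt⟩ := Opens.mem_iSup.mp (hcov.ge (trivial : x ∈ (⊤ : X.Opens)))
  exact ⟨n, t, hxt, ht⟩

end Groth.Agent.AmpCrit

end
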