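import Groth.Agent.AmpCrit.Acyclic
import Groth.Agent.AmpCrit.AffineHom
import Groth.Agent.AmpleLib.GlobGen
import Groth.Agent.AmpleLib.Tensor
import Groth.Agent.ProjTwist.Tensor
import Groth.Agent.LimTop.TensorQC
import Groth.Agent.PicCl.Basic

/-!
# Ample modules whose negative powers are acyclic
-/

set_option autoImplicit false
set_option linter.style.haveILetI false

universe u

open CategoryTheory Limits AlgebraicGeometry Opposite TopologicalSpace

noncomputable section

namespace Groth.Agent.AmpCrit.NegVan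

open Groth.Agent.QCoh Groth.Agent.Props.GenLocus Groth.Agent.Props.GenTensor
  Groth.Agent.Props.GenProd Groth.Agent.Props.AffineCrit Groth.Agent.Props.AffineCritFT
  Groth.Agent.AmpCrit.Acyclic Groth.Agent.AmpleLib Groth.Agent.ProjTwist

variable {X : Scheme.{u}}

/-- Tensoring with `N` on the right. -/
abbrev T (N : X.Modules) : X.Modules ⥤ X.Modules := (DCoh.tensorBi (X := X)).flip.obj N

theorem map_tmul (N : X.Modules) {A B : X.Modules} (φ : A ⟶ B) {V : X.Opens} (a : Γ(A, V))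
    (b : Γ(N, V)) : ((T N).map φ).app V (tmul a b) = tmul (φ.app V a) b := by
  let g : pre A N ⟶ pre B N :=
    MonoidalCategory.whiskerRight (show CohB1.toPMod A ⟶ CohB1.toPMod B from φ.val) (CohB1.toPMod N)
  have h := (PresheafOfModules.sheafificationAdjunction (𝟙 X.ringCatSheaf.obj)).unit.naturality g
  have h2 := congrArg (fun t => (PresheafOfModules.Hom.app t (op V)).hom
    (show (pre A N).obj (op V) from (a ⊗ₜ[Γ(X, V)] b : TensorProduct Γ(X, V) Γ(A, V) Γ(N, V)))) h
  exact h2.symm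

/-- A positive power and the same power of an inverse. -/
def powInvIso {L L' : X.Modules} (e : CohB1.tensorMod L L' ≅ Coh.structureModule X) :
    ∀ n, CohB1.tensorMod (CohB1.tensorPow L n) (CohB1.tensorPow L' n) ≅ Coh.structureModule X
  | 0 => oneTens _
  | n + 1 =>
    let A := CohB1.tensorPow L n
    let A' := CohB1.tensorPow L' n
    tensAssoc A L (CohB1.tensorMod A' L') ≪≫
      tensCongr (Iso.refl A) (tensCongr (Iso.refl L) (tensComm A' L') ≪≫ (tensAssoc L L' A').symm ≪≫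
        tensCongr e (Iso.refl A') ≪≫ oneTens A') ≪≫ powInvIso e n

theorem isInvertible_of_inverse {L L' : X.Modules} (hL : PicF.IsInvertible L)
    (e : CohB1.tensorMod L L' ≅ Coh.structureModule X) : PicF.IsInvertible L' := by
  obtain ⟨M, hM, ⟨f⟩⟩ := PicLaw.exists_inverse hL
  exact PicCl.isInvertible_of_iso ((oneTens L').symm ≪≫
    tensCongr ((tensComm M L ≪≫ f).symm) (Iso.refl L') ≪≫ tensAssoc M L L' ≪≫
    tensCongr (Iso.refl M) e ≪≫ tensOne M).symm hM

theorem fp_of_iso {κ : Type} {U : κ → X.Opens} {M N : X.Modules} (e : M ≅ N) (h : FP U M) :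
    FP U N := by
  have := h.1
  refine ⟨QCoh.isQuasicoherent_of_iso e, fun k => ?_⟩
  obtain ⟨h1, h2⟩ := h.2 k
  have hinv : ∀ {A B : X.Modules} (α : A ≅ B) (x : Γ(A, U k)),
      appLin α.inv (U k) (appLin α.hom (U k) x) = x := fun α x =>
    congrArg (fun t => t.app (U k) x) α.hom_inv_id
  let l : Γ(M, U k) ≃ₗ[Γ(X, U k)] Γ(N, U k) := LinearEquiv.ofLinear (appLin e.hom _) (appLin e.inv _)
    (LinearMap.ext fun x => hinv e.symm x) (LinearMap.ext fun x => hinv e x)
  exact ⟨Module.Finite.equiv l, Module.Projective.of_equiv l⟩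

theorem fp_of_isGen {κ : Type} {U : κ → X.Opens} {N : X.Modules} (hN : PicF.IsInvertible N)
    (g : ∀ k, Γ(N, U k)) (hg : ∀ k, IsGen N (U k) (g k)) : FP U N := by
  refine ⟨isQCoh_of_isInvertible hN, fun k => ?_⟩
  let l : Γ(X, U k) ≃ₗ[Γ(X, U k)] Γ(N, U k) :=
    LinearEquiv.ofBijective (LinearMap.toSpanSingleton _ _ (g k)) (by
      have := hg k (U k) le_rfl
      refine ⟨fun a b hab => this.1 ?_, fun x => ?_⟩
      · change a • res N le_rfl (g k) = b • res N le_rfl (g k)
        rw [res_self]; exact hab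
      · obtain ⟨a, ha⟩ := this.2 x
        exact ⟨a, by
          change a • g k = x
          rw [← ha]
          change a • g k = a • res N le_rfl (g k)
          rw [res_self]⟩)
  have : Module.Projective Γ(X, U k) Γ(X, U k) := inferInstance
  exact ⟨Module.Finite.equiv l, Module.Projective.of_equiv l⟩

theorem isFT_of_fp {κ : Type} {U : κ → X.Opens} (hU : ∀ k, IsAffineOpen (U k))
    (hcov : ∀ x : X, ∃ k, x ∈ U k) {M : X.Modules} (h : FP U M) : CohB1.IsFT M := by
  have := h.1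
  refine isFiniteType_of_forall_exists _ fun x => ?_
  obtain ⟨k, hk⟩ := hcov x
  exact ⟨U k, hU k, hk, (h.2 k).1⟩

/-- The split sequence defining `pr`. -/
abbrev prSeq (r : ℕ) : ShortComplex X.Modules :=
  ShortComplex.mk (biprod.inl : pr X r ⟶ pr X r ⊞ Coh.structureModule X) biprod.snd biprod.inl_snd

theorem prSeq_shortExact (r : ℕ) : (prSeq (X := X) r).ShortExact :=
  (ShortComplex.Splitting.ofHasBinaryBiproduct _ _).shortExact

theorem fp_T_pr {κ : Type} {U : κ → X.Opens} (hU : ∀ k, IsAffineOpen (U k)) {N : X.Modules}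
    (hN : PicF.IsInvertible N) (hN' : FP U N) : ∀ r, FP U ((T N).obj (pr X r))
  | 0 => fp_of_iso (oneTens N).symm hN'
  | r + 1 => fp_X₂ hU (shortExact_tensor hN (prSeq_shortExact r)) (fp_T_pr hU hN hN' r)
      (fp_of_iso (oneTens N).symm hN')

theorem subsingleton_T_pr {N : X.Modules} (hN : PicF.IsInvertible N) {p : ℕ}
    (h : Subsingleton (Coh.HH X N p)) : ∀ r, Subsingleton (Coh.HH X ((T N).obj (pr X r)) p)
  | 0 => subsingleton_HH_of_iso (oneTens N).symm p
  | r + 1 => by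
    have : Subsingleton (Coh.HH X ((prSeq (X := X) r).map (T N)).X₁ p) := subsingleton_T_pr hN h r
    have : Subsingleton (Coh.HH X ((prSeq (X := X) r).map (T N)).X₃ p) :=
      subsingleton_HH_of_iso (oneTens N).symm p
    exact CohLin.subsingleton_X₂ (shortExact_tensor hN (prSeq_shortExact r))

/-- A finitely generated twist is a quotient of a free module of finite rank. -/
theorem exists_epi_pr_twist [CompactSpace X] [QuasiSeparatedSpace X] {L : X.Modules}
    (hL : CohB1.IsAmple L) {F : X.Modules} (hF : Coh.IsQCoh F) (hFT : CohB1.IsFT F) (n₀ : ℕ) :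
    ∃ n, n₀ ≤ n ∧ ∃ (r : ℕ) (ψ : pr X r ⟶ CohB1.tensorMod F (CohB1.tensorPow L n)), Epi ψ := by
  classical
  haveI : F.IsQuasicoherent := hF
  obtain ⟨c, k, s, U, hk, hU, hUa, he, hcov⟩ := exists_common_cover hL
  choose e he using he
  have hfg : ∀ i, ∃ (d : ℕ) (σ : Fin d → Γ(F, U i)), Submodule.span Γ(X, U i) (Set.range σ) = ⊤ :=
    fun i => haveI := hFT
      haveI := finite_sections_of_isFiniteType F (hUa i)
      Module.Finite.exists_fin
  choose d σ hσ using hfg
  let J := Σ i, Fin (d i)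
  choose N hN using fun p : J =>
    exists_twist hF hL.1 (s p.1) (hU p.1) (he p.1) (σ p.1 p.2) 0
  obtain ⟨N₀, hN₀⟩ : ∃ N₀, ∀ p, N p ≤ N₀ := Finite.exists_le N
  let M := N₀ + n₀
  refine ⟨0 + k * M, (Nat.le_add_left n₀ N₀).trans ((Nat.le_mul_of_pos_left M hk).trans (Nat.le_add_left _ _)), ?_⟩
  let G := CohB1.tensorMod F (CohB1.tensorPow L (0 + k * M))
  haveI := isQCoh_of_isInvertible (isInvertible_tensorPow hL.1 (0 + k * M))
  haveI : (CohB1.tensorPow L (0 + k * M)).IsQuasicoherent := this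
  haveI : G.IsQuasicoherent := LimTop.TensorQC.isQuasicoherent_tensM F _
  choose ρ hρ using fun p : J => hN p M ((hN₀ p).trans (Nat.le_add_right _ _))
  let eJ := Fintype.equivFin J
  let τ : ℕ → Γ(G, ⊤) := fun j => if hj : j < Fintype.card J then ρ (eJ.symm ⟨j, hj⟩) else 0
  refine ⟨_, sumHom τ (Fintype.card J), epi_of_surjective U hUa
    (fun x => Opens.mem_iSup.mp (hcov (trivial : x ∈ (⊤ : X.Opens)))) _ fun i => ?_⟩
  let P : Γ(F, U i) →ₗ[Γ(X, U i)] Γ(G, U i) :=
    { toFun := fun f => tmul f (pw L (e i) (0 + k * M))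
      map_add' := fun a b => tmul_add_left _ _ _
      map_smul' := fun a b => tmul_smul_left _ _ _ }
  have hP : Function.Surjective P := by
    intro g
    obtain ⟨f, hf⟩ := (tmul_gen_bijective (isGen_pw (he i) (0 + k * M)) F le_rfl).2 g
    refine ⟨f, ?_⟩
    rw [← hf]
    change tmul f _ = tmul f (res _ le_rfl _)
    rw [res_self]
  rw [← LinearMap.range_eq_top, ← top_le_iff, ← LinearMap.range_eq_top.mpr hP, LinearMap.range_eq_map,
    ← hσ i, Submodule.map_span, Submodule.span_le]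
  rintro _ ⟨_, ⟨j, rfl⟩, rfl⟩
  let p : J := ⟨i, j⟩
  obtain ⟨w, hw⟩ := exists_factor τ (Fintype.card J) (eJ p) (eJ p).2.le
  have hτ : τ (eJ p) = ρ p := by
    simp only [τ, (eJ p).2, dif_pos, Fin.eta, Equiv.symm_apply_apply]
  let cc := co k (sec (s i) ⊤) le_top (he i)
  have hcu : IsUnit cc := by
    have e1 : X.basicOpen cc = U i := by
      rw [← genLocus_inf_eq (he i), ← hU, inf_idem]
    have h2 := RingedSpace.isUnit_res_basicOpen X.toRingedSpace cc
    have key : ∀ (O : X.Opens) (hO : O ≤ U i), O = U i → IsUnit (rres hO cc) → IsUnit cc := by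
      intro O hO hOe h
      subst hOe
      rwa [rres_self] at h
    exact key _ (X.basicOpen_le cc) e1 h2
  obtain ⟨v, hv⟩ := isUnit_iff_exists_inv'.mp (hcu.pow M)
  refine ⟨v • sec w (U i), ?_⟩
  rw [map_smul]
  change v • sec (w ≫ sumHom τ _) (U i) = P (σ i j)
  rw [hw, sec_homOfSec, hτ, hρ p]
  change v • tmul (cc ^ M • σ i j) _ = tmul (σ i j) _
  rw [tmul_smul_left, smul_smul, hv, one_smul]

variable {L L' : X.Modules} (hL : CohB1.IsAmple L)
  (e : CohB1.tensorMod L L' ≅ Coh.structureModule X) (n₀ : ℕ)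
  (h : ∀ n : ℕ, n₀ ≤ n → ∀ p : ℕ, 0 < p → Subsingleton (Coh.HH X (CohB1.tensorPow L' n) p))

include hL e h in
theorem subsingleton_HH_fp [CompactSpace X] [QuasiSeparatedSpace X] {κ : Type} {W : κ → X.Opens}
    (hW : ∀ i, IsAffineOpen (W i)) (hcov : ∀ x : X, ∃ i, x ∈ W i)
    (g : ∀ i, Γ(L', W i)) (hg : ∀ i, IsGen L' (W i) (g i))
    {M : X.Modules} (hM : FP W M) {p : ℕ} (hp : 0 < p) : Subsingleton (Coh.HH X M p) := by
  obtain ⟨d, hd⟩ := S0016.result X
  suffices ∀ m, ∀ M : X.Modules, FP W M →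
      ∀ p, 0 < p → d ≤ p + m → Subsingleton (Coh.HH X M p) from this d M hM p hp (Nat.le_add_left _ _)
  intro m
  induction m with
  | zero => exact fun M hM p _ hp => hd M hM.1 p hp
  | succ m ih =>
    intro M hM p hp hle
    obtain ⟨n, hn, r, ψ, hψ⟩ := exists_epi_pr_twist hL hM.1 (isFT_of_fp hW hcov hM) n₀
    have hL' := isInvertible_of_inverse hL.1 e
    have hN := isInvertible_tensorPow hL' n
    let S := ShortComplex.mk (kernel.ι ψ) ψ (kernel.condition _)
    have hS := shortExact_tensor hN (S := S) { exact := ShortComplex.exact_kernel _ }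
    let i3 : (S.map (T (CohB1.tensorPow L' n))).X₃ ≅ M :=
      tensAssoc _ _ _ ≪≫ tensCongr (Iso.refl M) (powInvIso e n) ≪≫ tensOne M
    have : Subsingleton (Coh.HH X (S.map (T (CohB1.tensorPow L' n))).X₂ p) :=
      subsingleton_T_pr hN (h n hn p hp) r
    have : Subsingleton (Coh.HH X (S.map (T (CohB1.tensorPow L' n))).X₁ (p + 1)) :=
      ih _ (fp_X₁ hW hS (fp_T_pr hW hN (fp_of_isGen hN _ fun i => isGen_pw (hg i) n) r)
        (fp_of_iso i3.symm hM)) (p + 1) p.succ_pos (by omega)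
    have : Subsingleton (Coh.HH X (S.map (T (CohB1.tensorPow L' n))).X₃ p) := CohLin.subsingleton_X₃ hS
    exact subsingleton_HH_of_iso i3 p

include hL e in
/-- The loci of functions coming from `t ↦ σ ⊗ t` lie in the locus of `σ`. -/
theorem basicOpen_le (n : ℕ) (σ : Γ(CohB1.tensorPow L n, ⊤))
    (y : Γ((T (CohB1.tensorPow L' n)).obj (Coh.structureModule X), ⊤)) (f : Γ(X, ⊤))
    (hf : f = ((T (CohB1.tensorPow L' n)).map (homOfSec σ) ≫ (powInvIso e n).hom).app ⊤ y) :
    X.basicOpen f ≤ locus σ := by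
  have hL' := isInvertible_of_inverse hL.1 e
  have hA := isInvertible_tensorPow hL.1 n
  have hB := isInvertible_tensorPow hL' n
  intro x hx
  obtain ⟨V, b, hxV, hb⟩ := exists_isGen hB x
  obtain ⟨a, ha⟩ := (tmul_gen_bijective hb (Coh.structureModule X) le_rfl).2
    (res ((T (CohB1.tensorPow L' n)).obj (Coh.structureModule X)) (le_top : V ≤ ⊤) y)
  let c : Γ(X, V) := a
  let z : Γ(CohB1.tensorMod (CohB1.tensorPow L n) (CohB1.tensorPow L' n), ⊤) :=
    ((T (CohB1.tensorPow L' n)).map (homOfSec σ)).app ⊤ y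
  have hz : res _ (le_top : V ≤ ⊤) z =
      c • tmul (res (CohB1.tensorPow L n) (le_top : V ≤ ⊤) σ) (res _ le_rfl b) := by
    refine (app_res ((T (CohB1.tensorPow L' n)).map (homOfSec σ)) (le_top : V ≤ ⊤) y).symm.trans ?_
    rw [← ha]
    refine (map_tmul _ (homOfSec σ) a (res _ le_rfl b)).trans ?_
    rw [← tmul_smul_left, app_eq, sec_homOfSec]
  have hfl : locus (M := Coh.structureModule X) f = X.basicOpen f := by
    have := locus_inf (le_refl (⊤ : X.Opens)) (isGen_one ⊤) f (f := f) (by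
      rw [res_self]; exact (mul_one f).symm)
    rwa [inf_top_eq] at this
  rw [← hfl, hf] at hx
  change x ∈ locus (M := Coh.structureModule X) ((powInvIso e n).hom.app ⊤ z) at hx
  rw [locus_app_iso] at hx
  have h1 : x ∈ locus (res _ (le_top : V ≤ ⊤) z) := by rw [locus_res]; exact ⟨hx, hxV⟩
  rw [hz, locus_smul (isInvertible_tensorMod hA hB), locus_tmul hA hB, locus_res] at h1
  exact h1.2.1.1

include hL e in
/-- Every global section of `T (O^(r+1))` gives functions with loci in those of the `σ_j`. -/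
theorem mem_span_locus (n : ℕ) (σ : ℕ → Γ(CohB1.tensorPow L n, ⊤)) : ∀ (r : ℕ)
    (y : Γ((T (CohB1.tensorPow L' n)).obj (pr X r), ⊤)),
    ((((T (CohB1.tensorPow L' n)).map (sumHom σ r) ≫ (powInvIso e n).hom).app ⊤ y : Γ(X, ⊤))) ∈
      Ideal.span {f : Γ(X, ⊤) | ∃ j ≤ r, X.basicOpen f ≤ locus (σ j)}
  | 0, y => Ideal.subset_span ⟨0, le_rfl, basicOpen_le hL e n (σ 0) y _ rfl⟩
  | r + 1, y => by
    let F := T (CohB1.tensorPow L' n)
    let p1 : pr X (r + 1) ⟶ pr X r := biprod.fst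
    let p2 : pr X (r + 1) ⟶ Coh.structureModule X := biprod.snd
    have hsum : sumHom σ (r + 1) = p1 ≫ sumHom σ r + p2 ≫ homOfSec (σ (r + 1)) := biprod.desc_eq
    have hs : F.map (sumHom σ (r + 1)) ≫ (powInvIso e n).hom =
        F.map p1 ≫ (F.map (sumHom σ r) ≫ (powInvIso e n).hom) +
          F.map p2 ≫ (F.map (homOfSec (σ (r + 1))) ≫ (powInvIso e n).hom) := by
      rw [hsum, Functor.map_add, Functor.map_comp, Functor.map_comp, Preadditive.add_comp,
        Category.assoc, Category.assoc]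
    have hy : ((F.map (sumHom σ (r + 1)) ≫ (powInvIso e n).hom).app ⊤ y : Γ(X, ⊤)) =
        ((F.map (sumHom σ r) ≫ (powInvIso e n).hom).app ⊤ ((F.map p1).app ⊤ y) : Γ(X, ⊤)) +
          ((F.map (homOfSec (σ (r + 1))) ≫ (powInvIso e n).hom).app ⊤ ((F.map p2).app ⊤ y) : Γ(X, ⊤)) :=
      congrArg (fun t : F.obj (pr X (r + 1)) ⟶ Coh.structureModule X => (t.app ⊤ y : Γ(X, ⊤))) hs
    rw [hy]
    have hmono : {f : Γ(X, ⊤) | ∃ j ≤ r, X.basicOpen f ≤ locus (σ j)} ⊆
        {f : Γ(X, ⊤) | ∃ j ≤ r + 1, X.basicOpen f ≤ locus (σ j)} :=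
      fun f ⟨j, hj, hf⟩ => ⟨j, hj.trans r.le_succ, hf⟩
    exact Ideal.add_mem (Ideal.span {f : Γ(X, ⊤) | ∃ j ≤ r + 1, X.basicOpen f ≤ locus (σ j)} :
        Ideal Γ(X, ⊤))
      (Ideal.span_mono hmono (mem_span_locus n σ r _))
      (Ideal.subset_span (s := {f : Γ(X, ⊤) | ∃ j ≤ r + 1, X.basicOpen f ≤ locus (σ j)})
        ⟨r + 1, le_rfl, basicOpen_le hL e n (σ (r + 1)) _ _ rfl⟩)

include hL e h in
theorem isAffine : IsAffine X := by
  classical
  haveI := hL.2.1
  haveI := isSeparated_of_isAmple hL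
  have hL' := isInvertible_of_inverse hL.1 e
  obtain ⟨m, W, g, hW, -, hg, hWcov⟩ :=
    exists_frame_cover_on hL' (O := ⊤) (by exact isCompact_univ)
  have hWcov' : ∀ x : X, ∃ i, x ∈ W i := fun x =>
    Opens.mem_iSup.mp (hWcov (trivial : x ∈ (⊤ : X.Opens)))
  obtain ⟨c, k, s, U, hk, hU, hUa, -, hcov⟩ := exists_common_cover hL
  let n := k * (n₀ + 1)
  have hn : n₀ ≤ n := (Nat.le_succ _).trans (Nat.le_mul_of_pos_left _ hk)
  choose t ht using fun i => exists_pow hL.1 (s i) (n₀ + 1) n rfl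
  let σ : ℕ → Γ(CohB1.tensorPow L n, ⊤) := fun j => if hj : j < c then sec (t ⟨j, hj⟩) ⊤ else 0
  have hσ : ∀ i : Fin c, locus (σ i) = U i := fun i => by
    simp only [σ, i.2, dif_pos, Fin.eta]
    rw [← genLocus_eq_locus, genLocus_pow hL.1 (s i) (Nat.succ_pos n₀) (t i) (ht i), hU]
  have hepi : Epi (sumHom σ c) := by
    have := isQCoh_of_isInvertible (isInvertible_tensorPow hL.1 n)
    haveI : (CohB1.tensorPow L n).IsQuasicoherent := this
    refine epi_of_surjective U hUa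
      (fun x => Opens.mem_iSup.mp (hcov (trivial : x ∈ (⊤ : X.Opens)))) _ fun i x => ?_
    obtain ⟨w, hw⟩ := exists_factor σ c i i.2.le
    obtain ⟨a, ha, -⟩ := (isGen_locus (σ i)).exists_eq (hσ i).ge x
    refine ⟨a • sec w (U i), ?_⟩
    rw [map_smul]
    change a • sec (w ≫ sumHom σ c) _ = x
    rw [hw, sec_homOfSec, ha, res_res]
  have hN := isInvertible_tensorPow hL' n
  let S := ShortComplex.mk (kernel.ι (sumHom σ c)) (sumHom σ c) (kernel.condition _)
  have hS := shortExact_tensor hN (S := S) { exact := ShortComplex.exact_kernel _ }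
  let φ := (T (CohB1.tensorPow L' n)).map (sumHom σ c) ≫ (powInvIso e n).hom
  let S' := ShortComplex.mk ((T (CohB1.tensorPow L' n)).map (kernel.ι (sumHom σ c))) φ (by
    rw [← Category.assoc, ← Functor.map_comp, kernel.condition, Functor.map_zero, zero_comp])
  let i : S.map (T (CohB1.tensorPow L' n)) ≅ S' :=
    ShortComplex.isoMk (Iso.refl _) (Iso.refl _) (powInvIso e n)
      ((Category.id_comp _).trans (Category.comp_id _).symm) (Category.id_comp _)
  have hS' : S'.ShortExact := ShortComplex.shortExact_of_iso i hS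
  have : Subsingleton (Coh.HH X S'.X₁ 1) :=
    subsingleton_HH_fp hL e n₀ h hW hWcov' g hg
      (fp_X₁ hW hS' (fp_T_pr hW hN (fp_of_isGen hN _ fun i => isGen_pw (hg i) n) c) fp_structureModule)
      one_pos
  obtain ⟨y, hy⟩ := CohLin.exists_hMap_g_eq hS'
    ((Sheaf.H.equiv₀ (Coh.toAb S'.X₃) isTerminalTop).symm (1 : Γ(X, ⊤))) (Subsingleton.elim _ _)
  have h2 := Sheaf.H.equiv₀_naturality (hT := isTerminalTop) (f := CohLin.abMap S'.g) y
  rw [show Sheaf.H.map (CohLin.abMap S'.g) 0 y = _ from hy] at h2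
  rw [(Sheaf.H.equiv₀ (Coh.toAb S'.X₃) isTerminalTop).apply_symm_apply] at h2
  have hspan : Ideal.span {f : Γ(X, ⊤) | ∃ j ≤ c, X.basicOpen f ≤ locus (σ j)} = ⊤ := by
    rw [Ideal.eq_top_iff_one]
    exact Eq.mp (congrArg (· ∈ Ideal.span {f : Γ(X, ⊤) | ∃ j ≤ c, X.basicOpen f ≤ locus (σ j)}) h2)
      (mem_span_locus hL e n σ c (Sheaf.H.equiv₀ (Coh.toAb S'.X₂) isTerminalTop y))
  refine isAffine_of_isAffineOpen_basicOpen _ hspan ?_
  rintro f ⟨j, -, hf⟩
  by_cases hj : j < c
  · have hle : X.basicOpen f ≤ U ⟨j, hj⟩ := hσ ⟨j, hj⟩ ▸ hf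
    have := (hUa ⟨j, hj⟩).basicOpen (rres (le_top : U ⟨j, hj⟩ ≤ ⊤) f)
    rwa [Scheme.basicOpen_res, inf_eq_right.mpr hle] at this
  · have hbot : locus (σ j) = ⊥ := by
      simp only [σ, dif_neg hj]
      rw [← zero_smul Γ(X, ⊤) (0 : Γ(CohB1.tensorPow L n, ⊤)),
        locus_smul (isInvertible_tensorPow hL.1 n), Scheme.basicOpen_zero, bot_inf_eq]
    rw [le_bot_iff.mp (hf.trans hbot.le)]
    exact isAffineOpen_bot X

end Groth.Agent.AmpCrit.NegVan

end
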