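import Groth.Agent.AmpCrit.SerreVan
import Groth.Agent.AmpCrit.AmpleH1
import Groth.Agent.AmpCrit.Acyclic
import Groth.Agent.CohDev.Coh
import Groth.Agent.ProperFin.Supp
import Groth.Agent.KFlat.PullTensor
import Groth.Agent.AmpleLib.Rel

/-!
# Higher direct images of twists by a relatively ample module
-/

set_option autoImplicit false
set_option linter.style.haveILetI false

universe u

open CategoryTheory Limits AlgebraicGeometry Opposite TopologicalSpace

noncomputable section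

namespace Groth.Agent.AmpCrit.RelVan

open Groth.Agent.ProjTwist Groth.Agent.AmpleLib

variable {X S : Scheme.{u}}

/-- Restriction commutes with tensor products. -/
def restrictTensIso {U : Scheme.{u}} (j : U ⟶ X) [IsOpenImmersion j] (A B : X.Modules) :
    (CohB1.tensorMod A B).restrict j ≅ CohB1.tensorMod (A.restrict j) (B.restrict j) :=
  (Scheme.Modules.restrictFunctorIsoPullback j).app _ ≪≫ KFlat.PullTensor.pullTensorIso j A B ≪≫
    tensCongr ((Scheme.Modules.restrictFunctorIsoPullback j).app A).symm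
      ((Scheme.Modules.restrictFunctorIsoPullback j).app B).symm

/-- Restriction commutes with tensor powers. -/
def restrictPowIso {U : Scheme.{u}} (j : U ⟶ X) [IsOpenImmersion j] (L : X.Modules) : ∀ n,
    (CohB1.tensorPow L n).restrict j ≅ CohB1.tensorPow (L.restrict j) n
  | 0 => AmpCrit.restrictUnitIso j
  | n + 1 => restrictTensIso j _ L ≪≫ tensCongr (restrictPowIso j L n) (Iso.refl _)

theorem van_of_subsingleton (R : CohAff.FRes X) (U : X.Opens) (p : ℕ)
    [h : Subsingleton (Coh.HH (U : Scheme.{u}) ((R.Z 0).restrict U.ι) p)] : R.Van p U := by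
  intro z
  let R' := R.restrict U.ι
  have e : U.ι ''ᵁ ⊤ = U := Scheme.Opens.ι_image_top _
  have h1 : R'.Ex p ⊤ (QCoh.res (R.Z p) e.le z) :=
    (R'.clsTop_eq_zero_iff p _).mp (@Subsingleton.elim _ h _ _)
  rcases p with _ | p
  · have h2 : QCoh.res (R.Z 0) e.le z = 0 := h1
    have h3 := congrArg (QCoh.res (R.Z 0) e.ge) h2
    rw [QCoh.res_res, QCoh.res_self, map_zero] at h3
    exact h3
  · obtain ⟨a, ha⟩ := h1
    have h2 : R.Ex (p + 1) (U.ι ''ᵁ ⊤) (QCoh.res (R.Z (p + 1)) e.le z) := ⟨a, ha⟩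
    have h3 := h2.res e.ge
    rw [QCoh.res_res, QCoh.res_self] at h3
    exact h3

theorem isZero_Rc_of_cover (R : CohAff.FRes X) [(R.Z 0).IsQuasicoherent] (f : X ⟶ S) [QuasiCompact f]
    [QuasiSeparated f] {ι : Type*} (W : ι → S.Opens) (hW : ∀ i, IsAffineOpen (W i))
    (hcov : ∀ s : S, ∃ i, s ∈ W i) {n : ℕ} (h : ∀ i, R.Van (n + 1) (f ⁻¹ᵁ W i)) :
    IsZero (R.Rc f n) := by
  have hz : ∀ i (r : Γ(R.Rc f n, W i)), r = 0 := fun i r => by
    obtain ⟨x, rfl⟩ := R.π'_surjective f (hW i) n r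
    exact R.π'_eq_zero_of_ex f n (h i x)
  haveI : (R.Rc f n).IsQuasicoherent := R.isQuasicoherent_Rc f n
  have : Epi (0 : R.Rc f n ⟶ R.Rc f n) := Acyclic.epi_of_surjective W hW hcov _ fun i x =>
    ⟨0, (map_zero _).trans (hz i x).symm⟩
  exact IsZero.of_epi_zero (R.Rc f n) (R.Rc f n)

theorem isZero_rpush_of_cover [HasInjectiveResolutions X.Modules] (f : X ⟶ S) [QuasiCompact f]
    [QuasiSeparated f] (M : X.Modules) [M.IsQuasicoherent] {ι : Type*} (W : ι → S.Opens)
    (hW : ∀ i, IsAffineOpen (W i)) (hcov : ∀ s : S, ∃ i, s ∈ W i) {n : ℕ}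
    (h : ∀ i, Subsingleton (Coh.HH ((f ⁻¹ᵁ W i : X.Opens) : Scheme.{u})
      (M.restrict (f ⁻¹ᵁ W i).ι) (n + 1))) :
    IsZero ((Coh.Rpush f (n + 1)).obj M) := by
  let R := CohAff.FRes.ofMod M
  have : (R.Z 0).IsQuasicoherent := ‹M.IsQuasicoherent›
  refine (isZero_Rc_of_cover R f W hW hcov fun i => ?_).of_iso (R.rpushIsoRc f n)
  have := h i
  exact van_of_subsingleton R _ (n + 1) (h := this)

theorem isQCoh_twist {L : X.Modules} (hL : PicF.IsInvertible L) {M : X.Modules} (hM : Coh.IsQCoh M)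
    (n : ℕ) : Coh.IsQCoh (CohB1.tensorMod M (CohB1.tensorPow L n)) := by
  have : M.IsQuasicoherent := hM
  have : (CohB1.tensorPow L n).IsQuasicoherent := isQCoh_of_isInvertible (isInvertible_tensorPow hL n)
  exact LimTop.TensorQC.isQuasicoherent_tensM M _

theorem subsingleton_restrict_twist (L M : X.Modules) (U : X.Opens) (n p : ℕ)
    (h : Subsingleton (Coh.HH (U : Scheme.{u})
      (CohB1.tensorMod (M.restrict U.ι) (CohB1.tensorPow (L.restrict U.ι) n)) p)) :
    Subsingleton (Coh.HH (U : Scheme.{u})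
      ((CohB1.tensorMod M (CohB1.tensorPow L n)).restrict U.ι) p) :=
  AmpCrit.subsingleton_HH_of_iso
    (restrictTensIso U.ι M _ ≪≫ tensCongr (Iso.refl _) (restrictPowIso U.ι L n)).symm p

/-- Relative Serre vanishing. -/
theorem exists_bound [HasInjectiveResolutions X.Modules] (f : X ⟶ S) [IsProper f] [IsNoetherian S]
    {L : X.Modules} (hL : PicF.IsInvertible L)
    (ha : ∀ W : S.Opens, IsAffineOpen W → CohB1.IsAmple (L.restrict (f ⁻¹ᵁ W).ι))
    {M : X.Modules} (hM : Coh.IsCoh M) :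
    ∃ n₀ : ℕ, ∀ n, n₀ ≤ n → ∀ p,
      IsZero ((Coh.Rpush f (p + 1)).obj (CohB1.tensorMod M (CohB1.tensorPow L n))) := by
  classical
  choose W hW hsW using fun s : S =>
    (exists_isAffineOpen_mem_and_subset (X := S) (x := s) (U := ⊤) trivial)
  obtain ⟨T, hT⟩ := isCompact_univ.elim_finite_subcover (fun s : S => (W s : Set S))
    (fun s => (W s).2) fun s _ => Set.mem_iUnion.mpr ⟨s, (hsW s).1⟩
  have key : ∀ s : T, ∃ n₀ : ℕ, ∀ n, n₀ ≤ n → ∀ p, 0 < p →
      Subsingleton (Coh.HH ((f ⁻¹ᵁ W s : X.Opens) : Scheme.{u})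
        (CohB1.tensorMod (M.restrict (f ⁻¹ᵁ W s).ι)
          (CohB1.tensorPow (L.restrict (f ⁻¹ᵁ W s).ι) n)) p) := fun s => by
    haveI : IsNoetherianRing Γ(S, W s) := IsLocallyNoetherian.component_noetherian ⟨W s, hW s⟩
    haveI : IsProper ((f ∣_ W s) ≫ (hW s).isoSpec.hom) := inferInstance
    exact SerreVan.serre_vanishing (R := Γ(S, W s)) ((f ∣_ W s) ≫ (hW s).isoSpec.hom)
      (ha _ (hW s)) _ (ProperFin.isCoh_restrict (f ⁻¹ᵁ W s).ι hM)
  choose n₀ hn₀ using key
  obtain ⟨N, hN⟩ : ∃ N, ∀ s, n₀ s ≤ N := Finite.exists_le n₀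
  refine ⟨N, fun n hn p => ?_⟩
  haveI : (CohB1.tensorMod M (CohB1.tensorPow L n)).IsQuasicoherent := isQCoh_twist hL hM.1 n
  refine isZero_rpush_of_cover f _ (fun s : T => W s) (fun s => hW _) (fun s => ?_) fun i => ?_
  · obtain ⟨t, ht, hst⟩ := Set.mem_iUnion₂.mp (hT (Set.mem_univ s))
    exact ⟨⟨t, ht⟩, hst⟩
  · exact subsingleton_restrict_twist L M _ n (p + 1) (hn₀ i n ((hN i).trans hn) (p + 1) p.succ_pos)

/-- Relative ampleness from `R¹f_*(J ⊗ L^n) = 0`. -/
theorem isRelAmple_of_R1 [HasInjectiveResolutions X.Modules] (f : X ⟶ S) [IsProper f] [IsNoetherian S]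
    {L : X.Modules} (hL : PicF.IsInvertible L)
    (h : ∀ (J : X.Modules) (ι : J ⟶ Coh.structureModule X), Mono ι → Coh.IsCoh J →
      ∃ N : ℕ, ∀ n : ℕ, N ≤ n →
        IsZero ((Coh.Rpush f 1).obj (CohB1.tensorMod J (CohB1.tensorPow L n)))) :
    RelAmple.IsRelAmple f L := by
  refine ⟨inferInstance, fun V => ?_⟩
  haveI : IsLocallyNoetherian X := LocallyOfFiniteType.isLocallyNoetherian f
  haveI : CompactSpace X := QuasiCompact.compactSpace_of_compactSpace f
  let U := f ⁻¹ᵁ V.1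
  have hc : IsCompact (U : Set X) := QuasiCompact.isCompact_preimage _ V.1.2 V.2.isCompact
  haveI : CompactSpace U.toScheme := isCompact_iff_compactSpace.mp hc
  refine AmpCrit.isAmple_of_H1 ((PicCl.isInvertible_pullback U.ι hL) |> PicCl.isInvertible_of_iso
    ((Scheme.Modules.restrictFunctorIsoPullback U.ι).app L).symm) fun I i hi hI => ?_
  haveI : Mono i := hi
  haveI : I.IsQuasicoherent := hI
  obtain ⟨I', i', hi', hq, ⟨e⟩⟩ := AmpCrit.exists_extend_ideal U i
  haveI : Mono i' := hi'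
  obtain ⟨N, hN⟩ := h I' i' hi'
    (CohDev.isCoh_of_mono i' hq (ProperFin.isCoh_structureModule X))
  refine ⟨N, ?_⟩
  haveI : (CohB1.tensorMod I' (CohB1.tensorPow L (N + 1))).IsQuasicoherent := isQCoh_twist hL hq _
  have h1 := AmpCrit.subsingleton_restrict f (CohB1.tensorMod I' (CohB1.tensorPow L (N + 1)))
    (((ModShf.toAbFunctor S).map_isZero (hN (N + 1) N.le_succ)).of_iso
      ((ModShf.rpushCompToAb f 1).app _).symm) V.2
  exact AmpCrit.subsingleton_HH_of_iso (restrictTensIso U.ι I' _ ≪≫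
    tensCongr e (restrictPowIso U.ι L (N + 1))) 1

end Groth.Agent.AmpCrit.RelVan

end
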