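import Groth.Agent.AmpCrit.Devissage
import Groth.Agent.AmpCrit.SerreVan
import Groth.Agent.AmpCrit.AmpleH1
import Groth.Agent.AmpCrit.NegVan
import Groth.Agent.AmpleLib.Functorial
import Groth.Agent.KFlat.PullTensor
import Groth.Agent.CohDev.Coh

/-!
Ampleness is detected on finite morphisms that hit every point.
-/

set_option autoImplicit false
set_option linter.style.haveILetI false

universe u

open CategoryTheory Limits AlgebraicGeometry Opposite TopologicalSpace
open Coherent

noncomputable section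

namespace Groth.Agent.AmpCrit.TwistDev

open Groth.Agent.ProjTwist Groth.Agent.AmpleLib Groth.Agent.AmpCrit.NegVan

variable {X : Scheme.{u}}

theorem subsingleton_HH_of_isZero {M : X.Modules} (hM : IsZero M) (n : ℕ) :
    Subsingleton (Coh.HH X M n) := by
  refine subsingleton_of_forall_eq 0 fun x => ?_
  rw [← CohLin.hMap_id M n x, hM.eq_of_src (𝟙 M) 0]
  exact map_zero (CohLin.hMapHom M M n x)

theorem subsingleton_HH_of_retract {M N : X.Modules} (i : M ⟶ N) (r : N ⟶ M) (h : i ≫ r = 𝟙 M)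
    (n : ℕ) (_hN : Subsingleton (Coh.HH X N n)) : Subsingleton (Coh.HH X M n) :=
  ⟨fun x y => by
    rw [← CohLin.hMap_id M n x, ← CohLin.hMap_id M n y, ← h, CohLin.hMap_comp, CohLin.hMap_comp,
      Subsingleton.elim (CohLin.hMap i n x) (CohLin.hMap i n y)]⟩

/-- Pullback commutes with tensor powers. -/
def pullPowIso {Y : Scheme.{u}} (g : Y ⟶ X) (L : X.Modules) : ∀ n,
    (Scheme.Modules.pullback g).obj (CohB1.tensorPow L n) ≅
      CohB1.tensorPow ((Scheme.Modules.pullback g).obj L) n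
  | 0 => QCoh.pullbackUnitIso g
  | n + 1 => KFlat.PullTensor.pullTensorIso g _ L ≪≫ tensCongr (pullPowIso g L n) (Iso.refl _)

/-- Eventual vanishing of the first cohomology of the twists. -/
def Van1 (L M : X.Modules) : Prop :=
  ∃ n₀ : ℕ, ∀ n : ℕ, n₀ ≤ n →
    Subsingleton (Coh.HH X (CohB1.tensorMod M (CohB1.tensorPow L n)) 1)

theorem isAmple_of_finite_family {R : Type u} [CommRing R] [IsNoetherianRing R]
    (f : X ⟶ Spec (CommRingCat.of R)) [IsProper f] {L : X.Modules} (hL : PicF.IsInvertible L)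
    (hg : ∀ x : X, ∃ (Y : Scheme.{u}) (g : Y ⟶ X) (y : Y), IsFinite g ∧ g y = x ∧
      CohB1.IsAmple ((Scheme.Modules.pullback g).obj L)) :
    CohB1.IsAmple L := by
  haveI : IsLocallyNoetherian X := LocallyOfFiniteType.isLocallyNoetherian f
  haveI : CompactSpace X := QuasiCompact.compactSpace_of_compactSpace f
  haveI : IsNoetherian X := ⟨⟩
  suffices H : ∀ {M : X.Modules}, Coh.IsCoh M → Van1 L M by
    refine isAmple_of_H1 hL fun I i hi hI => ?_
    haveI : Mono i := hi
    obtain ⟨n₀, hn⟩ := H (CohDev.isCoh_of_mono i hI (ProperFin.isCoh_structureModule X))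
    exact ⟨n₀, hn (n₀ + 1) n₀.le_succ⟩
  intro M hM
  refine devissage_master (P := Van1 L) ?_ ?_ ?_ ?_ ?_ hM
  · rintro A B ⟨e⟩ ⟨n₀, h⟩
    refine ⟨n₀, fun n hn => ?_⟩
    haveI := h n hn
    exact subsingleton_HH_of_iso (tensCongr e (Iso.refl _)) 1
  · refine fun A hA => ⟨0, fun n _ => subsingleton_HH_of_isZero ?_ 1⟩
    let S := ShortComplex.mk (𝟙 A) (𝟙 A) (hA.eq_of_src _ _)
    have hS : S.ShortExact :=
      { exact := S.exact_of_isZero_X₂ hA
        mono_f := inferInstanceAs (Mono (𝟙 A))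
        epi_g := inferInstanceAs (Epi (𝟙 A)) }
    have hT := shortExact_tensor (isInvertible_tensorPow hL n) hS
    have hz := (S.map (T (CohB1.tensorPow L n))).zero
    change (T (CohB1.tensorPow L n)).map (𝟙 A) ≫ (T (CohB1.tensorPow L n)).map (𝟙 A) = 0 at hz
    rw [← Functor.map_comp, Category.comp_id, CategoryTheory.Functor.map_id] at hz
    exact (IsZero.iff_id_eq_zero _).mpr hz
  · rintro S hS - - - ⟨a, ha⟩ ⟨b, hb⟩
    refine ⟨max a b, fun n hn => ?_⟩
    have hT := shortExact_tensor (isInvertible_tensorPow hL n) hS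
    haveI : Subsingleton (Coh.HH X (S.map (T (CohB1.tensorPow L n))).X₁ 1) :=
      ha n ((le_max_left a b).trans hn)
    haveI : Subsingleton (Coh.HH X (S.map (T (CohB1.tensorPow L n))).X₃ 1) :=
      hb n ((le_max_right a b).trans hn)
    exact CohLin.subsingleton_X₂ hT
  · rintro F d - hd ⟨n₀, h⟩
    refine ⟨n₀, fun n hn => ?_⟩
    refine subsingleton_HH_of_retract
      ((T (CohB1.tensorPow L n)).map (Sigma.ι (fun _ : Fin d => F) ⟨0, hd⟩))
      ((T (CohB1.tensorPow L n)).map (Sigma.desc fun _ : Fin d => 𝟙 F)) ?_ 1 (h n hn)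
    rw [← Functor.map_comp, Sigma.ι_desc, CategoryTheory.Functor.map_id]
  · intro x
    obtain ⟨Y, g, y, hfin, hgy, hamp⟩ := hg x
    refine ⟨Y, g, y, hfin, hgy, fun N hN => ?_⟩
    obtain ⟨n₀, h⟩ := SerreVan.serre_vanishing (g ≫ f) hamp N hN
    refine ⟨n₀, fun n hn => ?_⟩
    obtain ⟨π⟩ := ProjForm.nonempty_projIso g N (isInvertible_tensorPow hL n)
    let N' := CohB1.tensorMod N (CohB1.tensorPow ((Scheme.Modules.pullback g).obj L) n)
    haveI hN' : Coh.IsQCoh N' := by
      haveI := hN.1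
      haveI : (CohB1.tensorPow ((Scheme.Modules.pullback g).obj L) n).IsQuasicoherent :=
        isQCoh_of_isInvertible (isInvertible_tensorPow hamp.1 n)
      exact LimTop.TensorQC.isQuasicoherent_tensM N _
    obtain ⟨a⟩ := S0012.result g N' 1
    haveI := h n hn 1 one_pos
    haveI : Subsingleton (Coh.HH X ((Scheme.Modules.pushforward g).obj N') 1) :=
      a.symm.toEquiv.subsingleton
    exact subsingleton_HH_of_iso
      ((Scheme.Modules.pushforward g).mapIso (tensCongr (Iso.refl N) (pullPowIso g L n).symm) ≪≫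
        π.symm) 1

theorem qaMor_of_isAffineHom {Y : Scheme.{u}} (g : Y ⟶ X) [IsAffineHom g] :
    ConsPairLib.qaMor g := by
  refine ⟨inferInstance, fun V hV => ?_⟩
  haveI : IsAffine (g ⁻¹ᵁ V : Scheme.{u}) := hV.preimage g
  infer_instance

end Groth.Agent.AmpCrit.TwistDev
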